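import Cfsg.Agent.Lib.Helper24.CT.B03
import Cfsg.Agent.Lib.Helper24.CT.B04
import Cfsg.Agent.Lib.Helper24.CT.B05
import Cfsg.Agent.Lib.Helper24.CT.B06

/-!
# S4146 (β) farm (architect helper15, for helper24): definitions

Paper proof: module docstring of `Cfsg/Agent/Lib/Helper24/CT/BetaNotes.lean` (Steps 0-18).
Notation here: `Cz g = C(g)`, `Kc G m = K = ⁅A, ⊤⁆`, `CK G m = C_G(K)`, `St b`, and the context structure `Ctx G m n s b`
(= `b` is an `s`-primary element of class size `n` not commuting with some element of `A`; Steps 1-9 hold for every such `b`).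
`Y = Cz b`, `Y₀ = Cz b ⊓ CK G m`, `Z = Subgroup.center G`.
-/

set_option autoImplicit false

open Cfsg.Agent.Lib.Helper24.CT

namespace Cfsg.Agent.Lib.Helper15.CTB

variable {G : Type*} [Group G]

/-- the centralizer of an element -/
abbrev Cz (g : G) : Subgroup G := Subgroup.centralizer ({g} : Set G)

theorem mem_Cz {g x : G} : x ∈ Cz g ↔ x * g = g * x := Subgroup.mem_centralizer_singleton_iff

/-- `K = ⁅A, G⁆` -/
def Kc (G : Type*) [Group G] (m : ℕ) : Subgroup G := ⁅A G m, (⊤ : Subgroup G)⁆

/-- `C_G(K)` -/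
def CK (G : Type*) [Group G] (m : ℕ) : Subgroup G := Subgroup.centralizer (Kc G m : Set G)

/-- `St b`: the elements `k` such that left multiplication by `k` and by `k⁻¹` maps the class of `b` into itself -/
def St (b : G) : Subgroup G where
  carrier := {k | ∀ x, IsConj b x → IsConj b (k * x) ∧ IsConj b (k⁻¹ * x)}
  one_mem' := by
    intro x hx
    refine ⟨?_, ?_⟩
    · rw [one_mul]; exact hx
    · rw [inv_one, one_mul]; exact hx
  mul_mem' := by
    intro k k' hk hk' x hx
    refine ⟨?_, ?_⟩
    · rw [mul_assoc]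
      exact (hk _ (hk' x hx).1).1
    · rw [mul_inv_rev, mul_assoc]
      exact (hk' _ (hk x hx).2).2
  inv_mem' := by
    intro k hk x hx
    refine ⟨(hk x hx).2, ?_⟩
    rw [inv_inv]
    exact (hk x hx).1

theorem mem_St {b k : G} :
    k ∈ St b ↔ ∀ x, IsConj b x → IsConj b (k * x) ∧ IsConj b (k⁻¹ * x) := Iff.rfl

/-- the standing context of Steps 1-18: `b` is `s`-primary of class size `n` and does not centralize `A` -/
structure Ctx (G : Type*) [Group G] (m n s : ℕ) (b : G) : Prop where
  hyp : Hyp G m n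
  sp : s.Prime
  prim : IsPrimary s b
  clb : cl b = n
  ex : ∃ a ∈ A G m, ¬ Commute a b

end Cfsg.Agent.Lib.Helper15.CTB
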