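import Cfsg.Agent.Lib.Helper15.CTB.Defs

/-!
# S4146 (β) farm (architect helper15) — leaf L00

Paper proof: `Cfsg/Agent/Lib/Helper24/CT/BetaNotes.lean`.  Definitions: `CTB/Defs.lean` (`Cz`, `Kc`, `CK`, `St`, `Ctx`).
All EARLIER leaves (`CTB/L00 … ` up to the import below, linear chain) and Helper24 `CT/B01..B06` may be used as black boxes.
Only replace the `sorry`s; keep names / statements / namespace verbatim (aux lemmas: fresh names in a sub-namespace `L00`).

RECIPE.  Basics.  `cl_eq_m_of_not_commute`: `(h.mem_A_iff a).mp ha` gives `cl a = 1 ∨ cl a = m`; `cl a = 1` means `a ∈ center` (`cl_eq_one_iff`), so `a` commutes with `x`.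
`Kc_normal`: `Kc G m = ⁅A G m, ⊤⁆`, both normal (`A_normal` from B03): `unfold Kc; infer_instance` (`Subgroup.commutator_normal`).
`Kc_le_A`: `Subgroup.commutator_le_left` (needs `(A G m).Normal`).  `comm_mem_Kc`: `Subgroup.commutator_mem_commutator ha (Subgroup.mem_top g)` + `commutatorElement_def`
(`open scoped commutatorElement` may be needed for the `⁅a, g⁆` notation on elements).
`Ctx.s_dvd_m`: by contradiction; `c.ex` gives `a ∈ A`, `¬ Commute a b`; `cl a = m` by `cl_eq_m_of_not_commute`; if `¬ s ∣ m` then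
`c.hyp.commute_of_primary_not_dvd_m c.sp ‹¬ s ∣ m› ‹cl a = m› c.clb c.prim : Commute a b`.  `Ctx.not_s_dvd_n`: `c.hyp.not_dvd_n_of_dvd_m c.sp c.s_dvd_m`.
-/

set_option autoImplicit false

open Cfsg.Agent.Lib.Helper24.CT
open scoped commutatorElement

namespace Cfsg.Agent.Lib.Helper15.CTB

variable {G : Type*} [Group G] {m n s : ℕ} {b : G}

/-- elements of `A` that do not commute with something have class size `m` -/
theorem cl_eq_m_of_not_commute [Finite G] (h : Hyp G m n) {a x : G} (ha : a ∈ A G m) (hax : ¬ Commute a x) :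
    cl a = m := by
  rcases (h.mem_A_iff a).mp ha with h1 | h1
  · exfalso
    apply hax
    have hc : a ∈ Subgroup.center G := (cl_eq_one_iff a).mp h1
    exact ((Subgroup.mem_center_iff.mp hc) x).symm
  · exact h1

instance Kc_normal (m : ℕ) : (Kc G m).Normal := by
  unfold Kc
  infer_instance

theorem Kc_le_A (m : ℕ) : Kc G m ≤ A G m := by
  unfold Kc
  exact Subgroup.commutator_le_left _ _

/-- generators of `K`: Mathlib's `⁅a, g⁆ = a * g * a⁻¹ * g⁻¹` -/
theorem comm_mem_Kc {m : ℕ} {a : G} (ha : a ∈ A G m) (g : G) : a * g * a⁻¹ * g⁻¹ ∈ Kc G m := by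
  have h1 := Subgroup.commutator_mem_commutator ha (Subgroup.mem_top g)
  rw [commutatorElement_def] at h1
  exact h1

/-- Step 0: the prime of `b` divides `m` -/
theorem Ctx.s_dvd_m [Finite G] (c : Ctx G m n s b) : s ∣ m := by
  by_contra hsm
  obtain ⟨a, ha, hab⟩ := c.ex
  have hclm : cl a = m := cl_eq_m_of_not_commute c.hyp ha hab
  exact hab (c.hyp.commute_of_primary_not_dvd_m c.sp hsm hclm c.clb c.prim)

theorem Ctx.not_s_dvd_n [Finite G] (c : Ctx G m n s b) : ¬ s ∣ n :=
  c.hyp.not_dvd_n_of_dvd_m c.sp c.s_dvd_m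

end Cfsg.Agent.Lib.Helper15.CTB
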