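import Cfsg.Agent.Lib.Helper15.CTB.L00

/-!
# S4146 (β) farm (architect helper15) — leaf L01

Paper proof: `Cfsg/Agent/Lib/Helper24/CT/BetaNotes.lean`.  Definitions: `CTB/Defs.lean` (`Cz`, `Kc`, `CK`, `St`, `Ctx`).
All EARLIER leaves (`CTB/L00 … ` up to the import below, linear chain) and Helper24 `CT/B01..B06` may be used as black boxes.
Only replace the `sorry`s; keep names / statements / namespace verbatim (aux lemmas: fresh names in a sub-namespace `L01`).

RECIPE.  BetaNotes Step 1.  `cl a = m` (`cl_eq_m_of_not_commute`).  `cl (a*b) ∈ {1, m, n, m*n}` (`h.cs`).  If `cl (a*b) ∈ {1, m}` then `a * b ∈ A` (`h.mem_A_iff`), so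
`b = a⁻¹ * (a * b) ∈ A`, so `cl b ∈ {1, m}`, contradicting `cl b = n`, `1 < m < n`.  If `cl (a*b) = m * n`: `Cz a ⊓ Cz b ≤ Cz (a*b)`, and `(Cz a ⊓ Cz b).index = m * n`
(coprime indices: e.g. `Subgroup.index_inf_le` for `≤` and divisibility by both `m` and `n` + `Nat.Coprime.mul_dvd_of_dvd_of_dvd` for `≥`; finite group so indices are nonzero;
cf. the recipe of Helper24 B03), so `Cz (a*b) = Cz a ⊓ Cz b` (`Cfsg.Agent.Lib.Helper12.TwoClassN.eq_of_le_of_index_eq` or `Subgroup.eq_of_le_of_card_ge`-style);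
`a * b ∈ Cz (a*b)`, hence `a * b ∈ Cz a`, hence `b ∈ Cz a`: `Commute a b`.
-/

set_option autoImplicit false

open Cfsg.Agent.Lib.Helper24.CT

namespace Cfsg.Agent.Lib.Helper15.CTB

variable {G : Type*} [Group G] {m n s : ℕ} {b : G}

/-- Step 1 -/
theorem cl_mul_eq_n [Finite G] (h : Hyp G m n) {a b : G} (ha : a ∈ A G m) (hb : cl b = n)
    (hab : ¬ Commute a b) : cl (a * b) = n := by
  have hclA : cl a = m := cl_eq_m_of_not_commute h ha hab
  have hnotA : ¬ (cl (a * b) = 1 ∨ cl (a * b) = m) := by
    intro hc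
    have habA : a * b ∈ A G m := (h.mem_A_iff (a * b)).mpr hc
    have hbA : b ∈ A G m := by
      have e : b = a⁻¹ * (a * b) := by group
      rw [e]
      exact (A G m).mul_mem ((A G m).inv_mem ha) habA
    have h1 := h.one_lt_m
    have h2 := h.lt
    rcases (h.mem_A_iff b).mp hbA with hb1 | hbm
    · rw [hb] at hb1; omega
    · rw [hb] at hbm; omega
  rcases h.cs (a * b) with h1 | hm | hn | hmn
  · exact absurd (Or.inl h1) hnotA
  · exact absurd (Or.inr hm) hnotA
  · exact hn
  · exfalso
    apply hab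
    have hle : Cz a ⊓ Cz b ≤ Cz (a * b) := by
      rintro x ⟨hxa, hxb⟩
      have hxa' : x * a = a * x := mem_Cz.mp hxa
      have hxb' : x * b = b * x := mem_Cz.mp hxb
      apply mem_Cz.mpr
      calc x * (a * b) = (x * a) * b := by group
        _ = (a * x) * b := by rw [hxa']
        _ = a * (x * b) := by group
        _ = a * (b * x) := by rw [hxb']
        _ = a * b * x := by group
    have hidx1 : (Cz a ⊓ Cz b).index ≤ m * n := by
      have := Subgroup.index_inf_le (H := Cz a) (K := Cz b)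
      have ha' : (Cz a).index = m := hclA
      have hb' : (Cz b).index = n := hb
      rw [ha', hb'] at this
      exact this
    have hidx2 : (Cz (a * b)).index ∣ (Cz a ⊓ Cz b).index := Subgroup.index_dvd_of_le hle
    have hne : (Cz a ⊓ Cz b).index ≠ 0 := Subgroup.index_ne_zero_of_finite
    have hidx3 : (Cz (a * b)).index = m * n := hmn
    have hidx : (Cz a ⊓ Cz b).index = (Cz (a * b)).index := by
      have := Nat.le_of_dvd (Nat.pos_of_ne_zero hne) hidx2
      omega
    have heq : Cz a ⊓ Cz b = Cz (a * b) := B05_eq_of_le_of_index_eq hle hidx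
    have hmem : a * b ∈ Cz (a * b) := mem_Cz.mpr rfl
    rw [← heq] at hmem
    have h3 : (a * b) * a = a * (a * b) := mem_Cz.mp hmem.1
    have h4 : b * a = a * b := by
      calc b * a = a⁻¹ * ((a * b) * a) := by group
        _ = a⁻¹ * (a * (a * b)) := by rw [h3]
        _ = a * b := by group
    exact h4.symm

end Cfsg.Agent.Lib.Helper15.CTB
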