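import Cfsg.Agent.Lib.Helper15.CTB.L02a
import Cfsg.Agent.Lib.Helper22.Conj

/-!
# S4146 (β) farm (architect helper15) — leaf L02

Paper proof: `Cfsg/Agent/Lib/Helper24/CT/BetaNotes.lean`.  Definitions: `CTB/Defs.lean` (`Cz`, `Kc`, `CK`, `St`, `Ctx`).
All EARLIER leaves (`CTB/L00 … ` up to the import below, linear chain) and Helper24 `CT/B01..B06` may be used as black boxes.
Only replace the `sorry`s; keep names / statements / namespace verbatim (aux lemmas: fresh names in a sub-namespace `L02`).

RECIPE.  BetaNotes Step 2 (ii).  `cl a = m` (`cl_eq_m_of_not_commute`), `cl (a*b) = n` (`cl_mul_eq_n`).  Put `a' = g * a * g⁻¹`.  The map `x ↦ a' * x` sends the class of `b`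
(`(ConjClasses.mk b).carrier`, or `{x | IsConj b x}`) injectively into the class of `a * b` (`isConj_mul_conj`, every conjugate of `b` is `g' * b * g'⁻¹`).  Both classes are finite
of the same cardinality `n = cl b = cl (a*b)` (`Cfsg.Agent.Lib.Helper22.index_centralizer_eq_ncard_carrier` in `Lib/Helper22/Conj.lean`: class size = `ncard` of the carrier), so the map is
onto (`Set.surjOn_of_injOn_of_ncard_le`-style / `Finite.injective_iff_surjective` on subtypes / `Set.eq_of_subset_of_ncard_le` applied to the image).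
Hence `a * b = a' * x` for some `x` conjugate to `b`, i.e. `x = a'⁻¹ * a * b`.
-/

set_option autoImplicit false

open Cfsg.Agent.Lib.Helper24.CT

namespace Cfsg.Agent.Lib.Helper15.CTB

variable {G : Type*} [Group G] {m n s : ℕ} {b : G}

/-- Step 2 -/
theorem isConj_inv_conj_mul [Finite G] (h : Hyp G m n) {a b : G} (ha : a ∈ A G m) (hb : cl b = n)
    (hab : ¬ Commute a b) (g : G) : IsConj b ((g * a * g⁻¹)⁻¹ * a * b) := by
  have hcla : cl a = m := cl_eq_m_of_not_commute h ha hab
  have hclab : cl (a * b) = n := cl_mul_eq_n h ha hb hab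
  let X : Type _ := {x : G // IsConj b x}
  let Y : Type _ := {y : G // IsConj (a * b) y}
  let φ : X → Y := fun x => ⟨g * a * g⁻¹ * x.1, by
    obtain ⟨g', hg'⟩ := isConj_iff.mp x.2
    rw [← hg']
    exact isConj_mul_conj h hcla hb g g'⟩
  have hinj : Function.Injective φ := fun x x' hxx' =>
    Subtype.ext (mul_left_cancel (congrArg Subtype.val hxx'))
  have hcard : Nat.card Y ≤ Nat.card X := by
    have h1 : Nat.card Y = cl (a * b) :=
      (Cfsg.Agent.Lib.Helper22.index_centralizer_eq_card_isConj (a * b)).symm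
    have h2 : Nat.card X = cl b :=
      (Cfsg.Agent.Lib.Helper22.index_centralizer_eq_card_isConj b).symm
    rw [h1, h2, hclab, hb]
  obtain ⟨x, hx⟩ := (hinj.bijective_of_nat_card_le hcard).2 ⟨a * b, IsConj.refl _⟩
  have h1 : g * a * g⁻¹ * x.1 = a * b := congrArg Subtype.val hx
  have h2 : x.1 = (g * a * g⁻¹)⁻¹ * a * b := by
    rw [mul_assoc, ← h1]; group
  rw [← h2]
  exact x.2

end Cfsg.Agent.Lib.Helper15.CTB
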