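import Cfsg.Agent.Lib.Helper15.CTB.L01

/-!
# S4146 (β) farm (architect helper15) — leaf L02a

Paper proof: `Cfsg/Agent/Lib/Helper24/CT/BetaNotes.lean`.  Definitions: `CTB/Defs.lean` (`Cz`, `Kc`, `CK`, `St`, `Ctx`).
All EARLIER leaves (`CTB/L00 … ` up to the import below, linear chain) and Helper24 `CT/B01..B06` may be used as black boxes.
Only replace the `sorry`s; keep names / statements / namespace verbatim (aux lemmas: fresh names in a sub-namespace `L02a`).

RECIPE.  BetaNotes Step 2 (i).  `h.exists_mul_centralizers' ha hb (g⁻¹ * g')` gives `c ∈ Cz a`, `y ∈ Cz b` with `g⁻¹ * g' = c * y`, i.e. `g' = g * c * y`.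
Then `g' * b * g'⁻¹ = (g*c) * b * (g*c)⁻¹` (as `y` commutes with `b`) and `g * a * g⁻¹ = (g*c) * a * (g*c)⁻¹` (as `c` commutes with `a`), so the product is
`(g*c) * (a*b) * (g*c)⁻¹`.  `isConj_iff : IsConj x y ↔ ∃ c, c * x * c⁻¹ = y`.
-/

set_option autoImplicit false

open Cfsg.Agent.Lib.Helper24.CT

namespace Cfsg.Agent.Lib.Helper15.CTB

variable {G : Type*} [Group G] {m n s : ℕ} {b : G}

/-- Step 2 (i) -/
theorem isConj_mul_conj [Finite G] (h : Hyp G m n) {a b : G} (ha : cl a = m) (hb : cl b = n) (g g' : G) :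
    IsConj (a * b) (g * a * g⁻¹ * (g' * b * g'⁻¹)) := by
  obtain ⟨c, hc, y, hy, hcy⟩ := h.exists_mul_centralizers' ha hb (g⁻¹ * g')
  have hca : c * a = a * c := Subgroup.mem_centralizer_singleton_iff.mp hc
  have hyb : y * b = b * y := Subgroup.mem_centralizer_singleton_iff.mp hy
  have hg' : g' = g * c * y := by
    calc g' = g * (g⁻¹ * g') := by group
      _ = g * (c * y) := by rw [hcy]
      _ = g * c * y := by group
  rw [isConj_iff]
  refine ⟨g * c, ?_⟩
  rw [hg']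
  calc g * c * (a * b) * (g * c)⁻¹
      = g * (c * a) * c⁻¹ * g⁻¹ * (g * c * (b * y) * y⁻¹ * c⁻¹ * g⁻¹) := by group
    _ = g * (a * c) * c⁻¹ * g⁻¹ * (g * c * (y * b) * y⁻¹ * c⁻¹ * g⁻¹) := by rw [hca, hyb]
    _ = g * a * g⁻¹ * (g * c * y * b * (g * c * y)⁻¹) := by group

end Cfsg.Agent.Lib.Helper15.CTB
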