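import Cfsg.Agent.Lib.Helper15.CTB.L02

/-!
# S4146 (β) farm (architect helper15) — leaf L03a

Paper proof: `Cfsg/Agent/Lib/Helper24/CT/BetaNotes.lean`.  Definitions: `CTB/Defs.lean` (`Cz`, `Kc`, `CK`, `St`, `Ctx`).
All EARLIER leaves (`CTB/L00 … ` up to the import below, linear chain) and Helper24 `CT/B01..B06` may be used as black boxes.
Only replace the `sorry`s; keep names / statements / namespace verbatim (aux lemmas: fresh names in a sub-namespace `L03a`).

RECIPE.  `x ↦ k * x` is an injective self-map of the finite set `{x | IsConj b x}`, hence surjective (`Finite.injective_iff_surjective` on the subtype, or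
`Set.eq_of_subset_of_ncard_le` for the image): every `x` in the class is `k * x'` with `x'` in the class, so `k⁻¹ * x = x'` is in the class.  Conclude with `mem_St`.
-/

set_option autoImplicit false

open Cfsg.Agent.Lib.Helper24.CT

namespace Cfsg.Agent.Lib.Helper15.CTB

variable {G : Type*} [Group G] {m n s : ℕ} {b : G}

/-- Step 3: in a finite group the `k⁻¹` half of the definition of `St` is automatic -/
theorem mem_St_of_forall [Finite G] {b k : G} (hk : ∀ x, IsConj b x → IsConj b (k * x)) : k ∈ St b := by
  classical
  rw [mem_St]
  intro x hx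
  refine ⟨hk x hx, ?_⟩
  let f : {y : G // IsConj b y} → {y : G // IsConj b y} := fun y => ⟨k * y.1, hk y.1 y.2⟩
  have hinj : Function.Injective f := by
    intro y z hyz
    apply Subtype.ext
    have : k * y.1 = k * z.1 := congrArg Subtype.val hyz
    exact mul_left_cancel this
  have hsurj : Function.Surjective f := Finite.injective_iff_surjective.mp hinj
  obtain ⟨y, hy⟩ := hsurj ⟨x, hx⟩
  have hyx : k * y.1 = x := congrArg Subtype.val hy
  have : k⁻¹ * x = y.1 := by rw [← hyx]; group
  rw [this]
  exact y.2

end Cfsg.Agent.Lib.Helper15.CTB
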