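import Cfsg.Agent.Lib.Helper15.CTB.L03a

/-!
# S4146 (β) farm (architect helper15) — leaf L03b

Paper proof: `Cfsg/Agent/Lib/Helper24/CT/BetaNotes.lean`.  Definitions: `CTB/Defs.lean` (`Cz`, `Kc`, `CK`, `St`, `Ctx`).
All EARLIER leaves (`CTB/L00 … ` up to the import below, linear chain) and Helper24 `CT/B01..B06` may be used as black boxes.
Only replace the `sorry`s; keep names / statements / namespace verbatim (aux lemmas: fresh names in a sub-namespace `L03b`).

RECIPE.  `(g * k * g⁻¹) * x = g * (k * (g⁻¹ * x * g)) * g⁻¹`; `IsConj b (g⁻¹ * x * g)` if `IsConj b x`; conjugation preserves `IsConj b ·` (`IsConj.trans`, `isConj_iff`).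
Same for the inverse (`(g * k * g⁻¹)⁻¹ = g * k⁻¹ * g⁻¹`).  Structure: `⟨fun k hk g => mem_St.mpr (fun x hx => ⟨_, _⟩)⟩`.
-/

set_option autoImplicit false

open Cfsg.Agent.Lib.Helper24.CT

namespace Cfsg.Agent.Lib.Helper15.CTB

variable {G : Type*} [Group G] {m n s : ℕ} {b : G}

/-- Step 3: `St b` is normal -/
instance St_normal (b : G) : (St b).Normal := by
  have key : ∀ k : G, (∀ x, IsConj b x → IsConj b (k * x)) →
      ∀ g x : G, IsConj b x → IsConj b ((g * k * g⁻¹) * x) := by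
    intro k hk g x hx
    have h1 : IsConj x (g⁻¹ * x * g) := by
      rw [isConj_iff]
      exact ⟨g⁻¹, by simp⟩
    have h2 : IsConj b (g⁻¹ * x * g) := hx.trans h1
    have h3 : IsConj b (k * (g⁻¹ * x * g)) := hk _ h2
    have h4 : IsConj (k * (g⁻¹ * x * g)) ((g * k * g⁻¹) * x) := by
      rw [isConj_iff]
      exact ⟨g, by group⟩
    exact h3.trans h4
  refine ⟨fun k hk g => ?_⟩
  rw [mem_St] at hk ⊢
  intro x hx
  refine ⟨key k (fun y hy => (hk y hy).1) g x hx, ?_⟩
  have : (g * k * g⁻¹)⁻¹ = g * k⁻¹ * g⁻¹ := by group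
  rw [this]
  exact key k⁻¹ (fun y hy => (hk y hy).2) g x hx

end Cfsg.Agent.Lib.Helper15.CTB
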