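import Cfsg.Agent.Lib.Helper15.CTB.L03b
import Cfsg.Agent.Lib.Helper22.Conj

/-!
# S4146 (β) farm (architect helper15) — leaf L03c

Paper proof: `Cfsg/Agent/Lib/Helper24/CT/BetaNotes.lean`.  Definitions: `CTB/Defs.lean` (`Cz`, `Kc`, `CK`, `St`, `Ctx`).
All EARLIER leaves (`CTB/L00 … ` up to the import below, linear chain) and Helper24 `CT/B01..B06` may be used as black boxes.
Only replace the `sorry`s; keep names / statements / namespace verbatim (aux lemmas: fresh names in a sub-namespace `L03c`).

RECIPE.  `St b` acts freely on the class `X = {x | IsConj b x}` by left multiplication (`k • x = k * x`, closed by `mem_St`), so `X` is a disjoint union of orbits each of size `Nat.card (St b)`,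
so `Nat.card (St b) ∣ Nat.card X = cl b` (`Cfsg.Agent.Lib.Helper22.index_centralizer_eq_ncard_carrier`).  Concretely: define a `MulAction (St b) X`; all stabilizers are trivial
(`k * x = x → k = 1`); use `MulAction.card_orbit_mul_card_stabilizer_eq_card_group` + class formula, or the equivalence `X ≃ (orbits) × St b` via `MulAction.selfEquivSigmaOrbits`
and `MulAction.orbitEquivQuotientStabilizer`; or simply: the relation `x ~ x' ↔ ∃ k ∈ St b, x' = k * x` partitions `X` into classes in bijection with `St b`.
-/

set_option autoImplicit false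

open Cfsg.Agent.Lib.Helper24.CT

namespace Cfsg.Agent.Lib.Helper15.CTB

variable {G : Type*} [Group G] {m n s : ℕ} {b : G}

/-- Step 3: the class of `b` is a union of right cosets of `St b` -/
theorem card_St_dvd [Finite G] (b : G) : Nat.card (St b) ∣ cl b := by
  classical
  let X : Type _ := {x : G // IsConj b x}
  letI : MulAction (St b) X :=
    { smul := fun k x => ⟨k.1 * x.1, (mem_St.mp k.2 x.1 x.2).1⟩
      one_smul := fun x => Subtype.ext (one_mul x.1)
      mul_smul := fun k k' x => Subtype.ext (mul_assoc k.1 k'.1 x.1) }
  have hfree : ∀ x : X, MulAction.stabilizer (St b) x = ⊥ := by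
    intro x
    rw [eq_bot_iff]
    intro k hk
    rw [MulAction.mem_stabilizer_iff] at hk
    have h1 : k.1 * x.1 = x.1 := congrArg Subtype.val hk
    rw [Subgroup.mem_bot]
    apply Subtype.ext
    have h2 : k.1 * x.1 = 1 * x.1 := by rw [h1, one_mul]
    exact mul_right_cancel h2
  have e := MulAction.selfEquivOrbitsQuotientProd hfree
  have hc : Nat.card X = Nat.card (Quotient (MulAction.orbitRel (St b) X)) * Nat.card (St b) := by
    rw [Nat.card_congr e, Nat.card_prod]
  rw [cl_def, Cfsg.Agent.Lib.Helper22.index_centralizer_eq_card_isConj]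
  exact Dvd.intro_left _ hc.symm

end Cfsg.Agent.Lib.Helper15.CTB
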