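import Cfsg.Agent.Lib.Helper15.CTB.L03c

/-!
# S4146 (β) farm (architect helper15) — leaf L03d

Paper proof: `Cfsg/Agent/Lib/Helper24/CT/BetaNotes.lean`.  Definitions: `CTB/Defs.lean` (`Cz`, `Kc`, `CK`, `St`, `Ctx`).
All EARLIER leaves (`CTB/L00 … ` up to the import below, linear chain) and Helper24 `CT/B01..B06` may be used as black boxes.
Only replace the `sorry`s; keep names / statements / namespace verbatim (aux lemmas: fresh names in a sub-namespace `L03d`).

RECIPE.  BetaNotes Step 3, last sentence.  `mem_St_of_forall`: take `x` with `IsConj b x`.  `cl x = n` (`cl_conj` after `isConj_iff`).  `a` does not commute with `x`: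
otherwise, with `x = u * b * u⁻¹`, `h.commute_conj_conj (cl a = m) (cl x = n) ‹Commute a x› 1 u⁻¹` gives `Commute a b` (simp the conjugations).  So `isConj_inv_conj_mul h ha ‹cl x = n› ‹¬ Commute a x› g :
IsConj x ((g*a*g⁻¹)⁻¹ * a * x)`, and `IsConj.trans`.
-/

set_option autoImplicit false

open Cfsg.Agent.Lib.Helper24.CT

namespace Cfsg.Agent.Lib.Helper15.CTB

variable {G : Type*} [Group G] {m n s : ℕ} {b : G}

/-- Step 3 -/
theorem mem_St_of_not_commute [Finite G] (h : Hyp G m n) {a b : G} (ha : a ∈ A G m) (hb : cl b = n)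
    (hab : ¬ Commute a b) (g : G) : (g * a * g⁻¹)⁻¹ * a ∈ St b := by
  have hcla : cl a = m := cl_eq_m_of_not_commute h ha hab
  apply mem_St_of_forall
  intro x hx
  obtain ⟨u, hu⟩ := isConj_iff.mp hx
  have hclx : cl x = n := by
    rw [← hu, cl_conj]; exact hb
  have hax : ¬ Commute a x := by
    intro hc
    have h1 := h.commute_conj_conj hcla hclx hc 1 u⁻¹
    apply hab
    have e1 : (1 : G) * a * (1 : G)⁻¹ = a := by group
    have e2 : u⁻¹ * x * u⁻¹⁻¹ = b := by rw [← hu]; group
    rwa [e1, e2] at h1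
  have h2 : IsConj x ((g * a * g⁻¹)⁻¹ * a * x) := isConj_inv_conj_mul h ha hclx hax g
  exact hx.trans h2

end Cfsg.Agent.Lib.Helper15.CTB
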