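import Cfsg.Agent.Lib.Helper15.CTB.L03d

/-!
# S4146 (β) farm (architect helper15) — leaf L04

Paper proof: `Cfsg/Agent/Lib/Helper24/CT/BetaNotes.lean`.  Definitions: `CTB/Defs.lean` (`Cz`, `Kc`, `CK`, `St`, `Ctx`).
All EARLIER leaves (`CTB/L00 … ` up to the import below, linear chain) and Helper24 `CT/B01..B06` may be used as black boxes.
Only replace the `sorry`s; keep names / statements / namespace verbatim (aux lemmas: fresh names in a sub-namespace `L04`).

RECIPE.  BetaNotes Step 4.  `Kc G m = ⁅A, ⊤⁆ ≤ St b`: `Subgroup.commutator_le` reduces to `⁅a', g⁆ ∈ St b` for `a' ∈ A`, `g : G`, where `⁅a', g⁆ = a' * g * a'⁻¹ * g⁻¹`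
(`commutatorElement_def`).  Case `¬ Commute a' b`: `a' * g * a'⁻¹ * g⁻¹ = a' * ((g * a' * g⁻¹)⁻¹ * a') * a'⁻¹` is a conjugate of an element of `St b` (`mem_St_of_not_commute`), and `St b` is normal.
Case `Commute a' b`: take `a ∈ A`, `¬ Commute a b` from `hex`; then `¬ Commute (a * a') b`, `a * a' ∈ A`, and
`⁅a * a', g⁆ = a * ⁅a', g⁆ * a⁻¹ * ⁅a, g⁆`, so `⁅a', g⁆ = a⁻¹ * (⁅a * a', g⁆ * ⁅a, g⁆⁻¹) * a ∈ St b` (first case twice, `St b` a normal subgroup).
-/

set_option autoImplicit false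

open Cfsg.Agent.Lib.Helper24.CT

namespace Cfsg.Agent.Lib.Helper15.CTB

variable {G : Type*} [Group G] {m n s : ℕ} {b : G}

/-- Step 4 -/
theorem Kc_le_St [Finite G] (h : Hyp G m n) {b : G} (hb : cl b = n) (hex : ∃ a ∈ A G m, ¬ Commute a b) :
    Kc G m ≤ St b := by
  have key : ∀ a'' ∈ A G m, ¬ Commute a'' b → ∀ g : G, a'' * g * a''⁻¹ * g⁻¹ ∈ St b := by
    intro a'' ha'' hnc g
    have h1 := mem_St_of_not_commute h ha'' hb hnc g
    have h2 : a'' * g * a''⁻¹ * g⁻¹ = a'' * ((g * a'' * g⁻¹)⁻¹ * a'') * a''⁻¹ := by group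
    rw [h2]
    exact (St_normal b).conj_mem _ h1 a''
  unfold Kc
  rw [Subgroup.commutator_le]
  intro a' ha' g _
  rw [commutatorElement_def]
  by_cases hc : Commute a' b
  · obtain ⟨a, ha, hnc⟩ := hex
    have hnc' : ¬ Commute (a * a') b := by
      intro hcc
      apply hnc
      have e : a = (a * a') * a'⁻¹ := by group
      rw [e]
      exact hcc.mul_left hc.inv_left
    have haa' : a * a' ∈ A G m := (A G m).mul_mem ha ha'
    have k1 := key (a * a') haa' hnc' g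
    have k2 := key a ha hnc g
    have e : a' * g * a'⁻¹ * g⁻¹ =
        a⁻¹ * ((a * a' * g * (a * a')⁻¹ * g⁻¹) * (a * g * a⁻¹ * g⁻¹)⁻¹) * a⁻¹⁻¹ := by group
    rw [e]
    exact (St_normal b).conj_mem _ ((St b).mul_mem k1 ((St b).inv_mem k2)) a⁻¹
  · exact key a' ha' hc g

end Cfsg.Agent.Lib.Helper15.CTB
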