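import Cfsg.Agent.Lib.Helper15.CTB.L04

/-!
# S4146 (β) farm (architect helper15) — leaf L05

Paper proof: `Cfsg/Agent/Lib/Helper24/CT/BetaNotes.lean`.  Definitions: `CTB/Defs.lean` (`Cz`, `Kc`, `CK`, `St`, `Ctx`).
All EARLIER leaves (`CTB/L00 … ` up to the import below, linear chain) and Helper24 `CT/B01..B06` may be used as black boxes.
Only replace the `sorry`s; keep names / statements / namespace verbatim (aux lemmas: fresh names in a sub-namespace `L05`).

RECIPE.  `Ctx.card_Kc_dvd_n`: `Subgroup.card_dvd_of_le (Kc_le_St c.hyp c.clb c.ex)` and `card_St_dvd b`, `c.clb`.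
`Ctx.isConj_mul_of_mem_Kc`: `k ∈ St b` (`Kc_le_St`), apply `mem_St` to `x = b` (`IsConj.refl b`).
-/

set_option autoImplicit false

open Cfsg.Agent.Lib.Helper24.CT

namespace Cfsg.Agent.Lib.Helper15.CTB

variable {G : Type*} [Group G] {m n s : ℕ} {b : G}

/-- Step 4, consequences -/
theorem Ctx.card_Kc_dvd_n [Finite G] (c : Ctx G m n s b) : Nat.card (Kc G m) ∣ n := by
  have h1 : Nat.card (Kc G m) ∣ Nat.card (St b) :=
    Subgroup.card_dvd_of_le (Kc_le_St c.hyp c.clb c.ex)
  have h2 : Nat.card (St b) ∣ cl b := card_St_dvd b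
  rw [c.clb] at h2
  exact h1.trans h2

theorem Ctx.isConj_mul_of_mem_Kc [Finite G] (c : Ctx G m n s b) {k : G} (hk : k ∈ Kc G m) :
    IsConj b (k * b) := by
  have hk' : k ∈ St b := Kc_le_St c.hyp c.clb c.ex hk
  exact ((mem_St.mp hk') b (IsConj.refl b)).1

end Cfsg.Agent.Lib.Helper15.CTB
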