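import Cfsg.Agent.Lib.Helper15.CTB.L05

/-!
# S4146 (β) farm (architect helper15) — leaf L06

Paper proof: `Cfsg/Agent/Lib/Helper24/CT/BetaNotes.lean`.  Definitions: `CTB/Defs.lean` (`Cz`, `Kc`, `CK`, `St`, `Ctx`).
All EARLIER leaves (`CTB/L00 … ` up to the import below, linear chain) and Helper24 `CT/B01..B06` may be used as black boxes.
Only replace the `sorry`s; keep names / statements / namespace verbatim (aux lemmas: fresh names in a sub-namespace `L06`).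

RECIPE.  BetaNotes Step 6.  `eq_bot_iff`; let `k ∈ Kc G m` with `k ∈ Cz b` (commutes with `b`).  `IsConj b (k * b)` (`Ctx.isConj_mul_of_mem_Kc`) so `orderOf (k * b) = orderOf b = s ^ j`
(`c.prim`; conjugate elements have equal order: `isConj_iff` + `orderOf_conj`-style / `MulAut.conj`).  `(k * b) ^ (s^j) = k ^ (s^j) * b ^ (s^j)` (`Commute.mul_pow`), so `k ^ (s^j) = 1`,
`orderOf k ∣ s ^ j`.  Also `orderOf k ∣ Nat.card (Kc G m) ∣ n` (`Subgroup.orderOf_dvd_natCard`-style, `Ctx.card_Kc_dvd_n`).  `s ∤ n` (`Ctx.not_s_dvd_n`) so `(s^j).Coprime n`,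
`orderOf k = 1` (`Nat.Coprime.eq_one_of_dvd` / `Nat.eq_one_of_dvd_coprimes`), `k = 1`.
-/

set_option autoImplicit false

open Cfsg.Agent.Lib.Helper24.CT

namespace Cfsg.Agent.Lib.Helper15.CTB

variable {G : Type*} [Group G] {m n s : ℕ} {b : G}

/-- Step 6 -/
theorem Ctx.Kc_inf_Cz [Finite G] (c : Ctx G m n s b) : Kc G m ⊓ Cz b = ⊥ := by
  rw [eq_bot_iff]
  rintro k ⟨hkK, hkb⟩
  rw [Subgroup.mem_bot]
  have hkb' : k * b = b * k := mem_Cz.mp hkb
  obtain ⟨j, hj⟩ := c.prim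
  have hconj : IsConj b (k * b) := c.isConj_mul_of_mem_Kc hkK
  obtain ⟨g, hg⟩ := isConj_iff.mp hconj
  have hbj : b ^ s ^ j = 1 := by rw [← hj]; exact pow_orderOf_eq_one b
  have hkbj : (k * b) ^ s ^ j = 1 := by
    rw [← hg, conj_pow, hbj]; group
  have hcomm : Commute k b := hkb'
  rw [hcomm.mul_pow, hbj, mul_one] at hkbj
  have h1 : orderOf k ∣ s ^ j := orderOf_dvd_of_pow_eq_one hkbj
  have h2 : orderOf k ∣ n := by
    have h3 : orderOf (⟨k, hkK⟩ : Kc G m) ∣ Nat.card (Kc G m) := orderOf_dvd_natCard _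
    rw [Subgroup.orderOf_mk] at h3
    exact h3.trans c.card_Kc_dvd_n
  have hcop : (s ^ j).Coprime n :=
    Nat.Coprime.pow_left j ((Nat.Prime.coprime_iff_not_dvd c.sp).mpr c.not_s_dvd_n)
  exact orderOf_eq_one_iff.mp (Nat.eq_one_of_dvd_coprimes hcop h1 h2)

end Cfsg.Agent.Lib.Helper15.CTB
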