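import Cfsg.Agent.Lib.Helper15.CTB.L06

/-!
# S4146 (β) farm (architect helper15) — leaf L07

Paper proof: `Cfsg/Agent/Lib/Helper24/CT/BetaNotes.lean`.  Definitions: `CTB/Defs.lean` (`Cz`, `Kc`, `CK`, `St`, `Ctx`).
All EARLIER leaves (`CTB/L00 … ` up to the import below, linear chain) and Helper24 `CT/B01..B06` may be used as black boxes.
Only replace the `sorry`s; keep names / statements / namespace verbatim (aux lemmas: fresh names in a sub-namespace `L07`).

RECIPE.  BetaNotes Step 7.  `D = A G m ⊓ Cz b`.  `center ≤ D`: `center_le_A`, and central elements commute with `b`.  `D ≤ center`: let `a ∈ D`.  For every `g`, `g * a * g⁻¹ ∈ D`: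
it is in `A` (normal); if `a` is central it is `a`; otherwise `cl a = m` and `c.hyp.commute_conj_of_commute ‹cl a = m› c.clb ‹Commute a b› g`.  Hence `a * g * a⁻¹ * g⁻¹ = a * (g * a * g⁻¹)⁻¹ ∈ D ≤ Cz b`,
and it is in `Kc G m` (`comm_mem_Kc`), so it is `1` by `Ctx.Kc_inf_Cz`; thus `a` commutes with every `g` (`Subgroup.mem_center_iff`).
-/

set_option autoImplicit false

open Cfsg.Agent.Lib.Helper24.CT

namespace Cfsg.Agent.Lib.Helper15.CTB

variable {G : Type*} [Group G] {m n s : ℕ} {b : G}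

/-- Step 7 -/
theorem Ctx.A_inf_Cz [Finite G] (c : Ctx G m n s b) : A G m ⊓ Cz b = Subgroup.center G := by
  apply le_antisymm
  · rintro a ⟨haA, hab⟩
    have hab' : a * b = b * a := mem_Cz.mp hab
    rw [Subgroup.mem_center_iff]
    intro g
    -- d = g a g⁻¹ commutes with b
    have hd : (g * a * g⁻¹) * b = b * (g * a * g⁻¹) := by
      by_cases hac : a ∈ Subgroup.center G
      · have h1 : g * a = a * g := Subgroup.mem_center_iff.mp hac g
        have : g * a * g⁻¹ = a := by rw [h1]; group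
        rw [this]; exact hab'
      · have hcl : cl a = m := by
          rcases (c.hyp.mem_A_iff a).mp haA with h1 | h1
          · exact absurd ((cl_eq_one_iff a).mp h1) hac
          · exact h1
        exact c.hyp.commute_conj_of_commute hcl c.clb hab' g
    have hdinv : (g * a * g⁻¹)⁻¹ * b = b * (g * a * g⁻¹)⁻¹ := by
      calc (g * a * g⁻¹)⁻¹ * b = (g * a * g⁻¹)⁻¹ * (b * (g * a * g⁻¹)) * (g * a * g⁻¹)⁻¹ := by group
        _ = (g * a * g⁻¹)⁻¹ * ((g * a * g⁻¹) * b) * (g * a * g⁻¹)⁻¹ := by rw [hd]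
        _ = b * (g * a * g⁻¹)⁻¹ := by group
    have hk : a * g * a⁻¹ * g⁻¹ ∈ Kc G m ⊓ Cz b := by
      refine ⟨comm_mem_Kc haA g, ?_⟩
      show a * g * a⁻¹ * g⁻¹ ∈ Cz b
      rw [mem_Cz]
      have : a * g * a⁻¹ * g⁻¹ = a * (g * a * g⁻¹)⁻¹ := by group
      rw [this]
      calc a * (g * a * g⁻¹)⁻¹ * b = a * ((g * a * g⁻¹)⁻¹ * b) := by group
        _ = a * (b * (g * a * g⁻¹)⁻¹) := by rw [hdinv]
        _ = (a * b) * (g * a * g⁻¹)⁻¹ := by group
        _ = (b * a) * (g * a * g⁻¹)⁻¹ := by rw [hab']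
        _ = b * (a * (g * a * g⁻¹)⁻¹) := by group
    rw [c.Kc_inf_Cz, Subgroup.mem_bot] at hk
    calc g * a = (a * g * a⁻¹ * g⁻¹)⁻¹ * (a * g) := by group
      _ = a * g := by rw [hk, inv_one, one_mul]
  · intro z hz
    refine ⟨center_le_A m hz, ?_⟩
    show z ∈ Cz b
    rw [mem_Cz]
    exact (Subgroup.mem_center_iff.mp hz b).symm

end Cfsg.Agent.Lib.Helper15.CTB
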