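import Cfsg.Agent.Lib.Helper15.CTB.L07

/-!
# S4146 (β) farm (architect helper15) — leaf L08

Paper proof: `Cfsg/Agent/Lib/Helper24/CT/BetaNotes.lean`.  Definitions: `CTB/Defs.lean` (`Cz`, `Kc`, `CK`, `St`, `Ctx`).
All EARLIER leaves (`CTB/L00 … ` up to the import below, linear chain) and Helper24 `CT/B01..B06` may be used as black boxes.
Only replace the `sorry`s; keep names / statements / namespace verbatim (aux lemmas: fresh names in a sub-namespace `L08`).

RECIPE.  BetaNotes Step 8.  (≥) `Kc G m ⊓ center = ⊥` (it is inside `Kc ⊓ Cz b = ⊥`), both are subgroups of `A G m` (`Kc_le_A`, `center_le_A`), the map `Kc × center → A`, `(k, z) ↦ k * z` is injective,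
so `card Kc * card center ≤ card A`.  (≤) the map `A → Kc`, `a ↦ a * b * a⁻¹ * b⁻¹` (`comm_mem_Kc`) has fibres contained in cosets of `center`: if `a * b * a⁻¹ = a' * b * a'⁻¹` then
`a'⁻¹ * a ∈ A ⊓ Cz b = center` (`Ctx.A_inf_Cz`); so `card A ≤ card Kc * card center` (e.g. injective map `A ⧸ (center.subgroupOf A) → Kc`, `Subgroup.card_eq_card_quotient_mul_card_subgroup`;
or `Finset.card_le_mul_card_image`; or an injection `A → Kc × center` is not canonical - prefer the quotient or a fibre count `Set.ncard`).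
-/

set_option autoImplicit false

open Cfsg.Agent.Lib.Helper24.CT

namespace Cfsg.Agent.Lib.Helper15.CTB

variable {G : Type*} [Group G] {m n s : ℕ} {b : G}

/-- Step 8 -/
theorem Ctx.card_A [Finite G] (c : Ctx G m n s b) :
    Nat.card (A G m) = Nat.card (Kc G m) * Nat.card (Subgroup.center G) := by
  have hKA : Kc G m ≤ A G m := Kc_le_A m
  have hZA : Subgroup.center G ≤ A G m := center_le_A m
  have hKC : Kc G m ⊓ Cz b = ⊥ := c.Kc_inf_Cz
  have hAC : A G m ⊓ Cz b = Subgroup.center G := c.A_inf_Cz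
  have hZC : Subgroup.center G ≤ Cz b := by rw [← hAC]; exact inf_le_right
  apply le_antisymm
  · -- card A ≤ card K * card Z
    have h1 : Nat.card (A G m) = Nat.card ((A G m) ⧸ (Subgroup.center G).subgroupOf (A G m)) *
        Nat.card ((Subgroup.center G).subgroupOf (A G m)) :=
      Subgroup.card_eq_card_quotient_mul_card_subgroup _
    have h2 : Nat.card ((Subgroup.center G).subgroupOf (A G m)) = Nat.card (Subgroup.center G) :=
      Nat.card_congr (Subgroup.subgroupOfEquivOfLe hZA).toEquiv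
    have hwd : ∀ a a' : A G m,
        (QuotientGroup.leftRel ((Subgroup.center G).subgroupOf (A G m))) a a' →
        (⟨a.1 * b * a.1⁻¹ * b⁻¹, comm_mem_Kc a.2 b⟩ : Kc G m) =
          ⟨a'.1 * b * a'.1⁻¹ * b⁻¹, comm_mem_Kc a'.2 b⟩ := by
      intro a a' haa'
      rw [QuotientGroup.leftRel_apply, Subgroup.mem_subgroupOf] at haa'
      have hz : ((a⁻¹ * a' : A G m) : G) = (a : G)⁻¹ * (a' : G) := rfl
      rw [hz] at haa'
      have hzb : ((a : G)⁻¹ * (a' : G)) * b = b * ((a : G)⁻¹ * (a' : G)) := mem_Cz.mp (hZC haa')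
      apply Subtype.ext
      show (a : G) * b * (a : G)⁻¹ * b⁻¹ = (a' : G) * b * (a' : G)⁻¹ * b⁻¹
      have : (a' : G) * b * (a' : G)⁻¹ = (a : G) * (((a : G)⁻¹ * (a' : G)) * b) * (a' : G)⁻¹ := by group
      rw [this, hzb]
      group
    let f : (A G m) ⧸ (Subgroup.center G).subgroupOf (A G m) → Kc G m :=
      Quotient.lift (s := QuotientGroup.leftRel ((Subgroup.center G).subgroupOf (A G m)))
        (fun a : A G m => (⟨a.1 * b * a.1⁻¹ * b⁻¹, comm_mem_Kc a.2 b⟩ : Kc G m)) hwd
    have hf : Function.Injective f := by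
      intro x y hxy
      induction x using Quotient.inductionOn with
      | h a =>
      induction y using Quotient.inductionOn with
      | h a' =>
      apply Quotient.sound
      show (QuotientGroup.leftRel ((Subgroup.center G).subgroupOf (A G m))) a a'
      rw [QuotientGroup.leftRel_apply, Subgroup.mem_subgroupOf]
      have h3 : (a : G) * b * (a : G)⁻¹ * b⁻¹ = (a' : G) * b * (a' : G)⁻¹ * b⁻¹ :=
        congrArg Subtype.val hxy
      have h4 : (a : G) * b * (a : G)⁻¹ = (a' : G) * b * (a' : G)⁻¹ := mul_right_cancel h3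
      have hz : ((a⁻¹ * a' : A G m) : G) = (a : G)⁻¹ * (a' : G) := rfl
      rw [hz, ← hAC]
      refine ⟨(A G m).mul_mem ((A G m).inv_mem a.2) a'.2, ?_⟩
      show (a : G)⁻¹ * (a' : G) ∈ Cz b
      rw [mem_Cz]
      calc (a : G)⁻¹ * (a' : G) * b = (a : G)⁻¹ * ((a' : G) * b * (a' : G)⁻¹) * (a' : G) := by group
        _ = (a : G)⁻¹ * ((a : G) * b * (a : G)⁻¹) * (a' : G) := by rw [h4]
        _ = b * ((a : G)⁻¹ * (a' : G)) := by group
    have h3 : Nat.card ((A G m) ⧸ (Subgroup.center G).subgroupOf (A G m)) ≤ Nat.card (Kc G m) :=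
      Nat.card_le_card_of_injective f hf
    rw [h1, h2]
    exact Nat.mul_le_mul_right _ h3
  · -- card K * card Z ≤ card A
    rw [← Nat.card_prod]
    apply Nat.card_le_card_of_injective
      (fun kz : Kc G m × Subgroup.center G =>
        (⟨(kz.1 : G) * (kz.2 : G), (A G m).mul_mem (hKA kz.1.2) (hZA kz.2.2)⟩ : A G m))
    rintro ⟨⟨k, hk⟩, ⟨z, hz⟩⟩ ⟨⟨k', hk'⟩, ⟨z', hz'⟩⟩ hkz
    have h3 : k * z = k' * z' := congrArg Subtype.val hkz
    have h4 : k'⁻¹ * k = z' * z⁻¹ := by
      calc k'⁻¹ * k = k'⁻¹ * (k * z) * z⁻¹ := by group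
        _ = k'⁻¹ * (k' * z') * z⁻¹ := by rw [h3]
        _ = z' * z⁻¹ := by group
    have h5 : k'⁻¹ * k ∈ Kc G m ⊓ Cz b := by
      refine ⟨(Kc G m).mul_mem ((Kc G m).inv_mem hk') hk, ?_⟩
      rw [h4]
      exact hZC ((Subgroup.center G).mul_mem hz' ((Subgroup.center G).inv_mem hz))
    rw [hKC, Subgroup.mem_bot] at h5
    have hkk : k = k' := by
      calc k = k' * (k'⁻¹ * k) := by group
        _ = k' := by rw [h5, mul_one]
    have hzz : z = z' := by
      rw [hkk] at h3
      exact mul_left_cancel h3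
    subst hkk
    subst hzz
    rfl

end Cfsg.Agent.Lib.Helper15.CTB
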