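import Cfsg.Agent.Lib.Helper15.CTB.L08
import Cfsg.Agent.Lib.Helper22.Conj

/-!
# S4146 (β) farm (architect helper15) — leaf L09

Paper proof: `Cfsg/Agent/Lib/Helper24/CT/BetaNotes.lean`.  Definitions: `CTB/Defs.lean` (`Cz`, `Kc`, `CK`, `St`, `Ctx`).
All EARLIER leaves (`CTB/L00 … ` up to the import below, linear chain) and Helper24 `CT/B01..B06` may be used as black boxes.
Only replace the `sorry`s; keep names / statements / namespace verbatim (aux lemmas: fresh names in a sub-namespace `L09`).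

RECIPE.  BetaNotes Step 9.  `Ctx.Kc_inf_center`: `≤ Kc ⊓ Cz b = ⊥` (central elements commute with `b`).  `Ctx.Kc_ne_bot`: if `Kc G m = ⊥` then every `a ∈ A` is central
(`comm_mem_Kc ha g = 1` for all `g`), contradicting `c.ex`.  `Ctx.cl_of_mem_Kc`: `w ∈ A` so `cl w ∈ {1, m}` (`mem_A_iff`); `cl w = 1` gives `w ∈ center` (`cl_eq_one_iff`), so `w ∈ Kc ⊓ center = ⊥`.
`Ctx.lt_card_Kc`: pick `w ∈ Kc`, `w ≠ 1` (`Subgroup.ne_bot_iff_exists_ne_one`); its class `{x | IsConj w x}` has `m` elements (`Cfsg.Agent.Lib.Helper22.index_centralizer_eq_ncard_carrier`), all in `Kc` (normal)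
and `≠ 1`; adding `1` gives `m + 1 ≤ card Kc`.
-/

set_option autoImplicit false

open Cfsg.Agent.Lib.Helper24.CT

namespace Cfsg.Agent.Lib.Helper15.CTB

variable {G : Type*} [Group G] {m n s : ℕ} {b : G}

/-- Step 9 -/
theorem Ctx.Kc_inf_center [Finite G] (c : Ctx G m n s b) : Kc G m ⊓ Subgroup.center G = ⊥ := by
  rw [eq_bot_iff, ← c.Kc_inf_Cz]
  refine inf_le_inf_left _ ?_
  intro z hz
  rw [mem_Cz]
  exact (Subgroup.mem_center_iff.mp hz b).symm

theorem Ctx.Kc_ne_bot [Finite G] (c : Ctx G m n s b) : Kc G m ≠ ⊥ := by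
  intro hbot
  obtain ⟨a, ha, hab⟩ := c.ex
  apply hab
  have h1 : a * b * a⁻¹ * b⁻¹ ∈ Kc G m := comm_mem_Kc ha b
  rw [hbot, Subgroup.mem_bot] at h1
  show a * b = b * a
  calc a * b = (a * b * a⁻¹ * b⁻¹) * (b * a) := by group
    _ = b * a := by rw [h1, one_mul]

theorem Ctx.cl_of_mem_Kc [Finite G] (c : Ctx G m n s b) {w : G} (hw : w ∈ Kc G m) (hw1 : w ≠ 1) : cl w = m := by
  have hwA : w ∈ A G m := Kc_le_A m hw
  rcases (c.hyp.mem_A_iff w).mp hwA with h1 | h1
  · exfalso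
    apply hw1
    have hwZ : w ∈ Subgroup.center G := (cl_eq_one_iff w).mp h1
    have hmem : w ∈ Kc G m ⊓ Subgroup.center G := Subgroup.mem_inf.mpr ⟨hw, hwZ⟩
    rw [c.Kc_inf_center, Subgroup.mem_bot] at hmem
    exact hmem
  · exact h1

theorem Ctx.lt_card_Kc [Finite G] (c : Ctx G m n s b) : m < Nat.card (Kc G m) := by
  classical
  obtain ⟨w, hw1⟩ := (Subgroup.ne_bot_iff_exists_ne_one.mp c.Kc_ne_bot)
  have hw1' : (w : G) ≠ 1 := fun h => hw1 (Subtype.ext h)
  have hcl : cl (w : G) = m := c.cl_of_mem_Kc w.2 hw1'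
  have hncard : {x : G | IsConj (w : G) x}.ncard = m := by
    rw [← Cfsg.Agent.Lib.Helper22.index_centralizer_eq_ncard_setOf_isConj, ← cl_def, hcl]
  -- the class together with `1` sits inside `Kc`
  have hsub : insert (1 : G) {x : G | IsConj (w : G) x} ⊆ ((Kc G m : Subgroup G) : Set G) := by
    intro x hx
    rcases Set.mem_insert_iff.mp hx with rfl | hx
    · exact (Kc G m).one_mem
    · obtain ⟨g, hg⟩ := isConj_iff.mp hx
      rw [← hg]
      exact (Kc_normal m).conj_mem _ w.2 g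
  have hnot : (1 : G) ∉ {x : G | IsConj (w : G) x} := by
    intro h1
    apply hw1'
    obtain ⟨g, hg⟩ := isConj_iff.mp h1
    calc (w : G) = g⁻¹ * (g * (w : G) * g⁻¹) * g := by group
      _ = 1 := by rw [hg]; group
  have hfin : ((Kc G m : Subgroup G) : Set G).Finite := Set.toFinite _
  have hle := Set.ncard_le_ncard hsub hfin
  rw [Set.ncard_insert_of_notMem hnot (Set.toFinite _), hncard] at hle
  have hcard : ((Kc G m : Subgroup G) : Set G).ncard = Nat.card (Kc G m) := by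
    rw [← Nat.card_coe_set_eq]; rfl
  rw [hcard] at hle
  omega

end Cfsg.Agent.Lib.Helper15.CTB
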