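import Cfsg.Agent.Lib.Helper15.CTB.L09

/-!
# S4146 (β) farm (architect helper15) — leaf L10

Paper proof: `Cfsg/Agent/Lib/Helper24/CT/BetaNotes.lean`.  Definitions: `CTB/Defs.lean` (`Cz`, `Kc`, `CK`, `St`, `Ctx`).
All EARLIER leaves (`CTB/L00 … ` up to the import below, linear chain) and Helper24 `CT/B01..B06` may be used as black boxes.
Only replace the `sorry`s; keep names / statements / namespace verbatim (aux lemmas: fresh names in a sub-namespace `L10`).

RECIPE.  BetaNotes Step 10.  By cases on `∀ a ∈ A, Commute a b'`.  If not: `obtain ⟨p, hp, b'', hmem, hprim, hcl, hcent⟩ := h.exists_primary_cl_n hb'` (`Cz b'' = Cz b'`);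
the `a ∈ A` not commuting with `b'` does not commute with `b''` (`mem_Cz`, `hcent`); so `c : Ctx G m n p b'' := ⟨h, hp, hprim, hcl, ⟨a, ha, _⟩⟩` and `c.A_inf_Cz : A G m ⊓ Cz b'' = center`; rewrite `hcent`.
-/

set_option autoImplicit false

open Cfsg.Agent.Lib.Helper24.CT

namespace Cfsg.Agent.Lib.Helper15.CTB

variable {G : Type*} [Group G] {m n s : ℕ} {b : G}

/-- Step 10 (dichotomy) -/
theorem dichotomy [Finite G] (h : Hyp G m n) {b' : G} (hb' : cl b' = n) :
    (∀ a ∈ A G m, Commute a b') ∨ A G m ⊓ Cz b' = Subgroup.center G := by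
  by_cases hall : ∀ a ∈ A G m, Commute a b'
  · exact Or.inl hall
  · right
    push Not at hall
    obtain ⟨a, ha, hab⟩ := hall
    obtain ⟨p, hp, b'', _, hprim, hcl, hcent⟩ := h.exists_primary_cl_n hb'
    have hCz : Cz b'' = Cz b' := hcent
    have hab'' : ¬ Commute a b'' := by
      intro hc
      apply hab
      have h1 : a ∈ Cz b'' := mem_Cz.mpr hc.eq
      rw [hCz] at h1
      exact mem_Cz.mp h1
    have c : Ctx G m n p b'' := ⟨h, hp, hprim, hcl, ⟨a, ha, hab''⟩⟩
    have h2 := c.A_inf_Cz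
    rw [hCz] at h2
    exact h2

end Cfsg.Agent.Lib.Helper15.CTB
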