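import Cfsg.Agent.Lib.Helper15.CTB.L10

/-!
# S4146 (β) farm (architect helper15) — leaf L11

Paper proof: `Cfsg/Agent/Lib/Helper24/CT/BetaNotes.lean`.  Definitions: `CTB/Defs.lean` (`Cz`, `Kc`, `CK`, `St`, `Ctx`).
All EARLIER leaves (`CTB/L00 … ` up to the import below, linear chain) and Helper24 `CT/B01..B06` may be used as black boxes.
Only replace the `sorry`s; keep names / statements / namespace verbatim (aux lemmas: fresh names in a sub-namespace `L11`).

RECIPE.  `centralizer_mul_of_coprime`: `≥` is clear (`Commute.mul_right`).  `≤`: `x` and `y` are powers of `x * y`: with `a = orderOf x`, `c = orderOf y` coprime, `(x*y)^c = x^c` (`Commute.mul_pow`, `pow_orderOf_eq_one`)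
and `x ∈ zpowers (x^c)` since `c` is prime to `orderOf x` (`exists_pow_eq_self_of_coprime` / `zpowers_pow_eq...`); so anything commuting with `x * y` commutes with `x`; same for `y`.
(Helper24 B01 `centralizer_le_of_mem_zpowers'` turns `x ∈ zpowers (x*y)` into `Cz (x*y) ≤ Cz x`.)
`cl_mul_of_coprime`: `cl (x*y) = (Cz x ⊓ Cz y).index = (Cz x ⊓ Cz y).relIndex (Cz x) * (Cz x).index` (`Subgroup.relIndex_mul_index` with `inf_le_left`), commute the product.
-/

set_option autoImplicit false

open Cfsg.Agent.Lib.Helper24.CT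

namespace Cfsg.Agent.Lib.Helper15.CTB

variable {G : Type*} [Group G] {m n s : ℕ} {b : G}

/-- class size of a product of commuting elements of coprime orders -/
theorem centralizer_mul_of_coprime [Finite G] {x y : G} (hxy : Commute x y)
    (hcop : (orderOf x).Coprime (orderOf y)) : Cz (x * y) = Cz x ⊓ Cz y := by
  have hx : x ∈ Subgroup.zpowers (x * y) := by
    have hc : (orderOf y).Coprime (orderOf x) := hcop.symm
    obtain ⟨k, hk⟩ := exists_pow_eq_self_of_coprime hc
    have h1 : (x * y) ^ orderOf y = x ^ orderOf y := by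
      rw [hxy.mul_pow, pow_orderOf_eq_one, mul_one]
    have h3 : ((x * y) ^ orderOf y) ^ k ∈ Subgroup.zpowers (x * y) :=
      Subgroup.pow_mem _ (Subgroup.pow_mem _ (Subgroup.mem_zpowers _) _) _
    rw [h1, hk] at h3
    exact h3
  have hy : y ∈ Subgroup.zpowers (x * y) := by
    obtain ⟨k, hk⟩ := exists_pow_eq_self_of_coprime hcop
    have h1 : (x * y) ^ orderOf x = y ^ orderOf x := by
      rw [hxy.mul_pow, pow_orderOf_eq_one, one_mul]
    have h3 : ((x * y) ^ orderOf x) ^ k ∈ Subgroup.zpowers (x * y) :=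
      Subgroup.pow_mem _ (Subgroup.pow_mem _ (Subgroup.mem_zpowers _) _) _
    rw [h1, hk] at h3
    exact h3
  apply le_antisymm
  · exact le_inf (centralizer_le_of_mem_zpowers' hx) (centralizer_le_of_mem_zpowers' hy)
  · intro g hg
    have h1 : g * x = x * g := mem_Cz.mp (Subgroup.mem_inf.mp hg).1
    have h2 : g * y = y * g := mem_Cz.mp (Subgroup.mem_inf.mp hg).2
    rw [mem_Cz]
    calc g * (x * y) = (g * x) * y := by group
      _ = x * (g * y) := by rw [h1]; group
      _ = x * y * g := by rw [h2]; group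

theorem cl_mul_of_coprime [Finite G] {x y : G} (hxy : Commute x y) (hcop : (orderOf x).Coprime (orderOf y)) :
    cl (x * y) = cl x * (Cz x ⊓ Cz y).relIndex (Cz x) := by
  have h1 : cl (x * y) = (Cz x ⊓ Cz y).index := by
    rw [cl_def]
    have := centralizer_mul_of_coprime hxy hcop
    unfold Cz at this
    rw [this]
  have h2 : (Cz x ⊓ Cz y).relIndex (Cz x) * (Cz x).index = (Cz x ⊓ Cz y).index :=
    Subgroup.relIndex_mul_index inf_le_left
  rw [h1, ← h2, mul_comm]

end Cfsg.Agent.Lib.Helper15.CTB
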