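import Cfsg.Agent.Lib.Helper15.CTB.L11

/-!
# S4146 (β) farm (architect helper15) — leaf L12

Paper proof: `Cfsg/Agent/Lib/Helper24/CT/BetaNotes.lean`.  Definitions: `CTB/Defs.lean` (`Cz`, `Kc`, `CK`, `St`, `Ctx`).
All EARLIER leaves (`CTB/L00 … ` up to the import below, linear chain) and Helper24 `CT/B01..B06` may be used as black boxes.
Only replace the `sorry`s; keep names / statements / namespace verbatim (aux lemmas: fresh names in a sub-namespace `L12`).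

RECIPE.  BetaNotes Step 12.  `w ≠ 1` (prime order), `cl w = m` (`Ctx.cl_of_mem_Kc`).  `(orderOf w).Coprime (orderOf y)` from `hwr`, `hyr`.  `cl_mul_of_coprime hwy _ : cl (w*y) = m * t`, `t` the relIndex.
`m ∣ cl (w*y)` so `cl (w*y) = m ∨ = m * n` (`Hyp.cl_of_m_dvd`), so `t = 1 ∨ t = n` (cancel `m > 0`).  If `t = 1`: `Cz w ⊓ Cz y = Cz w`... precisely `Subgroup.relIndex_eq_one : H.relIndex K = 1 ↔ K ≤ H`,
so `Cz w ≤ Cz w ⊓ Cz y ≤ Cz y`, `cl y ∣ cl w = m` (`cl_dvd_of_centralizer_le`), `cl y = 1 ∨ m` (`Hyp.cl_of_dvd_m`), `y ∈ A` (`mem_A_iff`).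
-/

set_option autoImplicit false

open Cfsg.Agent.Lib.Helper24.CT

namespace Cfsg.Agent.Lib.Helper15.CTB

variable {G : Type*} [Group G] {m n s : ℕ} {b : G}

/-- Step 12 (*) -/
theorem Ctx.step12 [Finite G] (c : Ctx G m n s b) {w y : G} {r : ℕ} (hw : w ∈ Kc G m) (hr : r.Prime)
    (hwr : orderOf w = r) (hwy : Commute w y) (hyr : (orderOf y).Coprime r) :
    ((Cz w ⊓ Cz y).relIndex (Cz w) = 1 ∨ (Cz w ⊓ Cz y).relIndex (Cz w) = n) ∧
      ((Cz w ⊓ Cz y).relIndex (Cz w) = 1 → y ∈ A G m) := by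
  have h := c.hyp
  have hm0 : 0 < m := lt_trans Nat.zero_lt_one h.one_lt_m
  have hw1 : w ≠ 1 := by
    intro h1
    rw [h1, orderOf_one] at hwr
    exact hr.one_lt.ne' hwr.symm
  have hclw : cl w = m := c.cl_of_mem_Kc hw hw1
  have hcop : (orderOf w).Coprime (orderOf y) := by
    rw [hwr]; exact hyr.symm
  have hmul : cl (w * y) = cl w * (Cz w ⊓ Cz y).relIndex (Cz w) :=
    Cfsg.Agent.Lib.Helper15.CTB.cl_mul_of_coprime hwy hcop
  rw [hclw] at hmul
  have hdvd : m ∣ cl (w * y) := ⟨_, hmul⟩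
  have hcases : (Cz w ⊓ Cz y).relIndex (Cz w) = 1 ∨ (Cz w ⊓ Cz y).relIndex (Cz w) = n := by
    rcases h.cl_of_m_dvd hdvd with h1 | h1
    · left
      rw [hmul] at h1
      exact Nat.eq_of_mul_eq_mul_left hm0 (by rw [h1, mul_one])
    · right
      rw [hmul] at h1
      exact Nat.eq_of_mul_eq_mul_left hm0 h1
  refine ⟨hcases, ?_⟩
  intro ht
  have hle : Cz w ≤ Cz w ⊓ Cz y := Subgroup.relIndex_eq_one.mp ht
  have hle' : Cz w ≤ Cz y := hle.trans inf_le_right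
  have hd : cl y ∣ cl w := cl_dvd_of_centralizer_le hle'
  rw [hclw] at hd
  exact (h.mem_A_iff y).mpr (h.cl_of_dvd_m hd)

end Cfsg.Agent.Lib.Helper15.CTB
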