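import Cfsg.Agent.Lib.Helper15.CTB.L12

/-!
# S4146 (β) farm (architect helper15) — leaf L13

Paper proof: `Cfsg/Agent/Lib/Helper24/CT/BetaNotes.lean`.  Definitions: `CTB/Defs.lean` (`Cz`, `Kc`, `CK`, `St`, `Ctx`).
All EARLIER leaves (`CTB/L00 … ` up to the import below, linear chain) and Helper24 `CT/B01..B06` may be used as black boxes.
Only replace the `sorry`s; keep names / statements / namespace verbatim (aux lemmas: fresh names in a sub-namespace `L13`).

RECIPE.  BetaNotes Step 13 (mirror of L12).  `orderOf b = s ^ j` (`c.prim`), coprime to `orderOf y` by `hys`.  `cl_mul_of_coprime hby _ : cl (b*y) = n * t`; `n ∣ cl (b*y)` so `cl (b*y) = n ∨ m * n`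
(`Hyp.cl_of_n_dvd`), so `t = 1 ∨ t = m`.  If `t = 1` then `Cz b ≤ Cz y` (`Subgroup.relIndex_eq_one`), `cl y ∣ cl b = n`.
-/

set_option autoImplicit false

open Cfsg.Agent.Lib.Helper24.CT

namespace Cfsg.Agent.Lib.Helper15.CTB

variable {G : Type*} [Group G] {m n s : ℕ} {b : G}

/-- Step 13 (**) -/
theorem Ctx.step13 [Finite G] (c : Ctx G m n s b) {y : G} (hby : Commute b y) (hys : (orderOf y).Coprime s) :
    ((Cz b ⊓ Cz y).relIndex (Cz b) = 1 ∨ (Cz b ⊓ Cz y).relIndex (Cz b) = m) ∧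
      ((Cz b ⊓ Cz y).relIndex (Cz b) = 1 → cl y ∣ n) := by
  obtain ⟨k, hk⟩ := c.prim
  have hcop : (orderOf b).Coprime (orderOf y) := by
    rw [hk]; exact Nat.Coprime.pow_left k hys.symm
  have hmul := Cfsg.Agent.Lib.Helper15.CTB.cl_mul_of_coprime hby hcop
  rw [c.clb] at hmul
  have hnpos : 0 < n := lt_trans (lt_trans Nat.zero_lt_one c.hyp.one_lt_m) c.hyp.lt
  refine ⟨?_, ?_⟩
  · have hdvd : n ∣ cl (b * y) := ⟨_, hmul⟩
    rcases c.hyp.cl_of_n_dvd hdvd with h1 | h1
    · left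
      rw [h1] at hmul
      have : n * 1 = n * (Cz b ⊓ Cz y).relIndex (Cz b) := by rw [mul_one]; exact hmul
      exact (Nat.eq_of_mul_eq_mul_left hnpos this).symm
    · right
      rw [h1, mul_comm m n] at hmul
      exact (Nat.eq_of_mul_eq_mul_left hnpos hmul).symm
  · intro ht
    rw [Subgroup.relIndex_eq_one] at ht
    have hle : Cz b ≤ Cz y := fun x hx => (ht hx).2
    have hd : cl y ∣ cl b := cl_dvd_of_centralizer_le hle
    rw [c.clb] at hd
    exact hd

end Cfsg.Agent.Lib.Helper15.CTB
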