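import Cfsg.Agent.Lib.Helper15.CTB.L14c

/-!
# S4146 (β) farm (architect helper15) — leaf L14

Paper proof: `Cfsg/Agent/Lib/Helper24/CT/BetaNotes.lean`.  Definitions: `CTB/Defs.lean` (`Cz`, `Kc`, `CK`, `St`, `Ctx`).
All EARLIER leaves (`CTB/L00 … ` up to the import below, linear chain) and Helper24 `CT/B01..B06` may be used as black boxes.
Only replace the `sorry`s; keep names / statements / namespace verbatim (aux lemmas: fresh names in a sub-namespace `L14`).

RECIPE.  BetaNotes Step 14, reduction to primary elements.  Let `g ∈ Cz w ⊓ Cz b`, suppose `g ∉ CK G m`.  `exists_primary_not_mem (CK G m) ‹g ∉ CK›` gives a prime `p` and `a ∈ zpowers g`, `IsPrimary p a`, `a ∉ CK`.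
`a` commutes with `w` and `b` (powers of `g`: `Subgroup.mem_zpowers_iff`, `Commute.zpow_right`).  If `p = r` use `Ctx.claim1_b`, else `Ctx.claim1_a`: `a ∈ CK`.  Contradiction.
-/

set_option autoImplicit false

open Cfsg.Agent.Lib.Helper24.CT

namespace Cfsg.Agent.Lib.Helper15.CTB

variable {G : Type*} [Group G] {m n s : ℕ} {b : G}

/-- Step 14 (Claim 1) -/
theorem Ctx.claim1 [Finite G] (c : Ctx G m n s b) {w : G} {r : ℕ} (hw : w ∈ Kc G m) (hr : r.Prime)
    (hwr : orderOf w = r) : Cz w ⊓ Cz b ≤ CK G m := by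
  intro g hg
  by_contra hgK
  obtain ⟨p, hp, a, ha, hpa, haK⟩ := exists_primary_not_mem (CK G m) hgK
  obtain ⟨k, rfl⟩ := Subgroup.mem_zpowers_iff.mp ha
  have hgw : Commute w g := (mem_Cz.mp hg.1).symm
  have hgb : Commute b g := (mem_Cz.mp hg.2).symm
  have hwa : Commute w (g ^ k) := hgw.zpow_right k
  have hba : Commute b (g ^ k) := hgb.zpow_right k
  apply haK
  by_cases hpr : p = r
  · subst hpr
    exact c.claim1_b hw hr hwr hwa hba hpa
  · exact c.claim1_a hw hr hwr hwa hba hpa hp hpr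

end Cfsg.Agent.Lib.Helper15.CTB
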