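import Cfsg.Agent.Lib.Helper15.CTB.L13

/-!
# S4146 (β) farm (architect helper15) — leaf L14a

Paper proof: `Cfsg/Agent/Lib/Helper24/CT/BetaNotes.lean`.  Definitions: `CTB/Defs.lean` (`Cz`, `Kc`, `CK`, `St`, `Ctx`).
All EARLIER leaves (`CTB/L00 … ` up to the import below, linear chain) and Helper24 `CT/B01..B06` may be used as black boxes.
Only replace the `sorry`s; keep names / statements / namespace verbatim (aux lemmas: fresh names in a sub-namespace `L14a`).

RECIPE.  `dichotomy c.hyp hy`: either `y` commutes with all of `A ⊇ Kc` (`Kc_le_A`), so `y ∈ CK G m` (`Subgroup.mem_centralizer_iff`; mind the orientation `k * y = y * k`),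
or `A ⊓ Cz y = center`; but `w ∈ A` (`Kc_le_A`), `w ∈ Cz y` (`mem_Cz`), so `w ∈ center`, `w ∈ Kc ⊓ center = ⊥` (`Ctx.Kc_inf_center`), `w = 1`: contradiction.
-/

set_option autoImplicit false

open Cfsg.Agent.Lib.Helper24.CT

namespace Cfsg.Agent.Lib.Helper15.CTB

variable {G : Type*} [Group G] {m n s : ℕ} {b : G}

/-- Step 14 (Claim 1), common end of cases (a) and (b): a class size `n` element commuting with a nontrivial `w ∈ K`
centralizes `K` -/
theorem Ctx.mem_CK_of_cl_n [Finite G] (c : Ctx G m n s b) {w y : G} (hw : w ∈ Kc G m) (hw1 : w ≠ 1)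
    (hwy : Commute w y) (hy : cl y = n) : y ∈ CK G m := by
  rcases dichotomy c.hyp hy with h1 | h2
  · unfold CK
    rw [Subgroup.mem_centralizer_iff]
    intro k hk
    exact (h1 k (Kc_le_A m hk)).eq
  · exfalso
    apply hw1
    have hwA : w ∈ A G m := Kc_le_A m hw
    have hwC : w ∈ Cz y := mem_Cz.mpr hwy.eq
    have hwZ : w ∈ Subgroup.center G := by
      rw [← h2]; exact ⟨hwA, hwC⟩
    have : w ∈ Kc G m ⊓ Subgroup.center G := ⟨hw, hwZ⟩
    rw [c.Kc_inf_center] at this
    exact Subgroup.mem_bot.mp this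

end Cfsg.Agent.Lib.Helper15.CTB
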