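import Cfsg.Agent.Lib.Helper15.CTB.L14a

/-!
# S4146 (β) farm (architect helper15) — leaf L14b

Paper proof: `Cfsg/Agent/Lib/Helper24/CT/BetaNotes.lean`.  Definitions: `CTB/Defs.lean` (`Cz`, `Kc`, `CK`, `St`, `Ctx`).
All EARLIER leaves (`CTB/L00 … ` up to the import below, linear chain) and Helper24 `CT/B01..B06` may be used as black boxes.
Only replace the `sorry`s; keep names / statements / namespace verbatim (aux lemmas: fresh names in a sub-namespace `L14b`).

RECIPE.  BetaNotes Step 14 (a).  `w ≠ 1`.  If `y ∈ center` then `y ∈ CK` trivially.  Else `y ∉ A` (`Ctx.A_inf_Cz`: `y ∈ Cz b`).  `orderOf y = t ^ k` is prime to `r` (`t ≠ r` primes).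
`Ctx.step12`: the relIndex is `n` (if `1` then `y ∈ A`).  So `(Cz w ⊓ Cz y).index = n * m` (`Subgroup.relIndex_mul_index`, `cl w = m`).  `cl y ≠ 1, m` (`y ∉ A`).  If `cl y = m * n`: `Cz w ⊓ Cz y ≤ Cz y` with equal index,
so `Cz y = Cz w ⊓ Cz y ≤ Cz w`; `b ∈ Cz y` so `b ∈ Cz w`, i.e. `w ∈ Kc ⊓ Cz b = ⊥` (`Ctx.Kc_inf_Cz`): contradiction.  So `cl y = n` (`c.hyp.cs y`); conclude by `Ctx.mem_CK_of_cl_n`.
-/

set_option autoImplicit false

open Cfsg.Agent.Lib.Helper24.CT

namespace Cfsg.Agent.Lib.Helper15.CTB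

variable {G : Type*} [Group G] {m n s : ℕ} {b : G}

/-- Step 14 (Claim 1), case (a): `y` a primary `r'`-element -/
theorem Ctx.claim1_a [Finite G] (c : Ctx G m n s b) {w y : G} {r t : ℕ} (hw : w ∈ Kc G m) (hr : r.Prime)
    (hwr : orderOf w = r) (hwy : Commute w y) (hby : Commute b y) (hyt : IsPrimary t y) (ht : t.Prime)
    (htr : t ≠ r) : y ∈ CK G m := by
  have hw1 : w ≠ 1 := by
    intro h
    rw [h, orderOf_one] at hwr
    exact hr.one_lt.ne hwr
  by_cases hyZ : y ∈ Subgroup.center G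
  · unfold CK
    rw [Subgroup.mem_centralizer_iff]
    intro k _
    exact (Subgroup.mem_center_iff.mp hyZ k)
  have hyA : y ∉ A G m := by
    intro hA
    apply hyZ
    rw [← c.A_inf_Cz]
    exact ⟨hA, mem_Cz.mpr hby.eq.symm⟩
  obtain ⟨k, hk⟩ := hyt
  have hyr : (orderOf y).Coprime r := by
    rw [hk]
    exact Nat.Coprime.pow_left k ((Nat.coprime_primes ht hr).mpr htr)
  obtain ⟨h12a, h12b⟩ := c.step12 hw hr hwr hwy hyr
  have hrel : (Cz w ⊓ Cz y).relIndex (Cz w) = n := by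
    rcases h12a with h | h
    · exact absurd (h12b h) hyA
    · exact h
  have hclw : cl w = m := c.cl_of_mem_Kc hw hw1
  have hidx : (Cz w ⊓ Cz y).index = n * m := by
    rw [← Subgroup.relIndex_mul_index (inf_le_left : Cz w ⊓ Cz y ≤ Cz w), hrel]
    congr 1
  rcases c.hyp.cs y with h | h | h | h
  · exact absurd ((cl_eq_one_iff y).mp h) hyZ
  · exact absurd ((c.hyp.mem_A_iff y).mpr (Or.inr h)) hyA
  · exact c.mem_CK_of_cl_n hw hw1 hwy h
  · exfalso
    apply hw1
    have heq : Cz w ⊓ Cz y = Cz y := by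
      apply B05_eq_of_le_of_index_eq inf_le_right
      rw [hidx]
      have : (Cz y).index = m * n := h
      rw [this, mul_comm]
    have hle : Cz y ≤ Cz w := by
      rw [← heq]; exact inf_le_left
    have hbw : b ∈ Cz w := hle (mem_Cz.mpr hby.eq)
    have hwb : w ∈ Cz b := mem_Cz.mpr (mem_Cz.mp hbw).symm
    have : w ∈ Kc G m ⊓ Cz b := ⟨hw, hwb⟩
    rw [c.Kc_inf_Cz] at this
    exact Subgroup.mem_bot.mp this

end Cfsg.Agent.Lib.Helper15.CTB
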