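import Cfsg.Agent.Lib.Helper15.CTB.L14b

/-!
# S4146 (β) farm (architect helper15) — leaf L14c

Paper proof: `Cfsg/Agent/Lib/Helper24/CT/BetaNotes.lean`.  Definitions: `CTB/Defs.lean` (`Cz`, `Kc`, `CK`, `St`, `Ctx`).
All EARLIER leaves (`CTB/L00 … ` up to the import below, linear chain) and Helper24 `CT/B01..B06` may be used as black boxes.
Only replace the `sorry`s; keep names / statements / namespace verbatim (aux lemmas: fresh names in a sub-namespace `L14c`).

RECIPE.  BetaNotes Step 14 (b).  `r ∣ Nat.card Kc ∣ n` (`orderOf_dvd_natCard`, `Ctx.card_Kc_dvd_n`), `s ∣ m`, so `r ≠ s` and `orderOf y = r ^ k` is prime to `s`.  If `y ∈ center` done.  Else `y ∉ A`.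
`Ctx.step13`: if the relIndex is `1` then `cl y ∣ n`, `cl y ≠ 1`, so `cl y = n` (`Hyp.cl_of_dvd_n`) and `Cz b ≤ Cz y` with equal index so `Cz y = Cz b`; `w ∈ Cz y` gives `w ∈ Kc ⊓ Cz b = ⊥`: contradiction.
So the relIndex is `m`, `(Cz b ⊓ Cz y).index = m * n`; if `cl y = m * n` then `Cz y = Cz b ⊓ Cz y ≤ Cz b`, again `w ∈ Cz b`: contradiction.  So `cl y = n`; conclude by `Ctx.mem_CK_of_cl_n`.
-/

set_option autoImplicit false

open Cfsg.Agent.Lib.Helper24.CT

namespace Cfsg.Agent.Lib.Helper15.CTB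

variable {G : Type*} [Group G] {m n s : ℕ} {b : G}

/-- Step 14 (Claim 1), case (b): `y` an `r`-element -/
theorem Ctx.claim1_b [Finite G] (c : Ctx G m n s b) {w y : G} {r : ℕ} (hw : w ∈ Kc G m) (hr : r.Prime)
    (hwr : orderOf w = r) (hwy : Commute w y) (hby : Commute b y) (hyr : IsPrimary r y) : y ∈ CK G m := by
  have hw1 : w ≠ 1 := by
    intro h
    rw [h, orderOf_one] at hwr
    exact hr.one_lt.ne hwr
  by_cases hyZ : y ∈ Subgroup.center G
  · unfold CK
    rw [Subgroup.mem_centralizer_iff]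
    intro k _
    exact (Subgroup.mem_center_iff.mp hyZ k)
  have hyA : y ∉ A G m := by
    intro hA
    apply hyZ
    rw [← c.A_inf_Cz]
    exact ⟨hA, mem_Cz.mpr hby.eq.symm⟩
  -- r ∣ n
  have hrn : r ∣ n := by
    have h1 : orderOf w ∣ Nat.card (Kc G m) := by
      have := orderOf_dvd_natCard (⟨w, hw⟩ : Kc G m)
      rwa [Subgroup.orderOf_mk] at this
    rw [hwr] at h1
    exact h1.trans c.card_Kc_dvd_n
  have hrs : r ≠ s := by
    intro h
    apply c.not_s_dvd_n
    rw [← h]; exact hrn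
  obtain ⟨k, hk⟩ := hyr
  have hys : (orderOf y).Coprime s := by
    rw [hk]
    exact Nat.Coprime.pow_left k ((Nat.coprime_primes hr c.sp).mpr hrs)
  obtain ⟨h13a, h13b⟩ := c.step13 hby hys
  have hwCy : w ∈ Cz y := mem_Cz.mpr hwy.eq
  have hcontra : Cz y ≤ Cz b → False := by
    intro hle
    apply hw1
    have : w ∈ Kc G m ⊓ Cz b := ⟨hw, hle hwCy⟩
    rw [c.Kc_inf_Cz] at this
    exact Subgroup.mem_bot.mp this
  rcases h13a with h1 | hm
  · -- relIndex = 1
    rcases c.hyp.cl_of_dvd_n (h13b h1) with h | h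
    · exact absurd ((cl_eq_one_iff y).mp h) hyZ
    · exact c.mem_CK_of_cl_n hw hw1 hwy h
  · have hidx : (Cz b ⊓ Cz y).index = m * n := by
      rw [← Subgroup.relIndex_mul_index (inf_le_left : Cz b ⊓ Cz y ≤ Cz b), hm]
      congr 1
      exact c.clb
    rcases c.hyp.cs y with h | h | h | h
    · exact absurd ((cl_eq_one_iff y).mp h) hyZ
    · exact absurd ((c.hyp.mem_A_iff y).mpr (Or.inr h)) hyA
    · exact c.mem_CK_of_cl_n hw hw1 hwy h
    · exfalso
      apply hcontra
      have heq : Cz b ⊓ Cz y = Cz y := by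
        apply B05_eq_of_le_of_index_eq inf_le_right
        rw [hidx]
        exact h.symm
      rw [← heq]; exact inf_le_left

end Cfsg.Agent.Lib.Helper15.CTB
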