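import Cfsg.Agent.Lib.Helper15.CTB.L14

/-!
# S4146 (β) farm (architect helper15) — leaf L14d

Paper proof: `Cfsg/Agent/Lib/Helper24/CT/BetaNotes.lean`.  Definitions: `CTB/Defs.lean` (`Cz`, `Kc`, `CK`, `St`, `Ctx`).
All EARLIER leaves (`CTB/L00 … ` up to the import below, linear chain) and Helper24 `CT/B01..B06` may be used as black boxes.
Only replace the `sorry`s; keep names / statements / namespace verbatim (aux lemmas: fresh names in a sub-namespace `L14d`).

RECIPE.  BetaNotes Step 14, last line.  `Kc ≠ ⊥` so there is `w ∈ Kc` of prime order `r` (`exists_prime_orderOf_dvd_card` in the finite group `↥(Kc G m)`, nontrivial).  `Cz b ⊓ CK = Cz b ⊓ Cz w`: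
`≤` since `w ∈ Kc` (`CK` = centralizer of `Kc`), `≥` by `Ctx.claim1`.  `(Cz w ⊓ Cz b).index = m * n` (coprime indices `cl w = m`, `cl b = n`, as in L01), and `card H * H.index = card G` (`Subgroup.card_mul_index`).
-/

set_option autoImplicit false

open Cfsg.Agent.Lib.Helper24.CT

namespace Cfsg.Agent.Lib.Helper15.CTB

variable {G : Type*} [Group G] {m n s : ℕ} {b : G}

namespace L14d

/-- index of an intersection of two subgroups of coprime indices -/
theorem index_inf_of_coprime [Finite G] (H K : Subgroup G) (hcop : H.index.Coprime K.index) :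
    (H ⊓ K).index = H.index * K.index := by
  apply Nat.le_antisymm Subgroup.index_inf_le
  apply Nat.le_of_dvd (Nat.pos_of_ne_zero Subgroup.index_ne_zero_of_finite)
  exact hcop.mul_dvd_of_dvd_of_dvd (Subgroup.index_dvd_of_le inf_le_left)
    (Subgroup.index_dvd_of_le inf_le_right)

/-- an element of prime order in `Kc` -/
theorem exists_prime_order [Finite G] (c : Ctx G m n s b) :
    ∃ w ∈ Kc G m, ∃ r : ℕ, r.Prime ∧ orderOf w = r := by
  have hne := c.Kc_ne_bot
  have hcard : Nat.card ↥(Kc G m) ≠ 1 := by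
    intro h1
    exact hne (Subgroup.card_eq_one.mp h1)
  obtain ⟨r, hr, hrd⟩ := Nat.exists_prime_and_dvd hcard
  have : Fact r.Prime := ⟨hr⟩
  obtain ⟨x, hx⟩ := exists_prime_orderOf_dvd_card' r hrd
  exact ⟨(x : G), x.2, r, hr, by rw [Subgroup.orderOf_coe]; exact hx⟩

end L14d

/-- Step 14, last line: `|Y₀| * (m * n) = |G|` -/
theorem Ctx.card_Y0 [Finite G] (c : Ctx G m n s b) :
    Nat.card ↥(Cz b ⊓ CK G m) * (m * n) = Nat.card G := by
  obtain ⟨w, hw, r, hr, hwr⟩ := L14d.exists_prime_order c
  have hw1 : w ≠ 1 := by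
    intro h1
    rw [h1, orderOf_one] at hwr
    exact hr.one_lt.ne' hwr.symm
  have hclw : cl w = m := c.cl_of_mem_Kc hw hw1
  have heq : Cz b ⊓ CK G m = Cz w ⊓ Cz b := by
    apply le_antisymm
    · intro y hy
      refine ⟨?_, hy.1⟩
      change y ∈ Cz w
      rw [mem_Cz]
      have h2 : y ∈ Subgroup.centralizer (Kc G m : Set G) := hy.2
      rw [Subgroup.mem_centralizer_iff] at h2
      exact (h2 w hw).symm
    · exact le_inf inf_le_right (c.claim1 hw hr hwr)
  have hidx : (Cz w ⊓ Cz b).index = m * n := by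
    have hcop : (Cz w).index.Coprime (Cz b).index := by
      have h1 : (Cz w).index = m := hclw
      have h2 : (Cz b).index = n := c.clb
      rw [h1, h2]
      exact c.hyp.cop
    rw [L14d.index_inf_of_coprime _ _ hcop]
    have h1 : (Cz w).index = m := hclw
    have h2 : (Cz b).index = n := c.clb
    rw [h1, h2]
  rw [heq, ← hidx]
  exact Subgroup.card_mul_index _

end Cfsg.Agent.Lib.Helper15.CTB
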