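import Cfsg.Agent.Lib.Helper15.CTB.L14d

/-!
# S4146 (β) farm (architect helper15) — leaf L15

Paper proof: `Cfsg/Agent/Lib/Helper24/CT/BetaNotes.lean`.  Definitions: `CTB/Defs.lean` (`Cz`, `Kc`, `CK`, `St`, `Ctx`).
All EARLIER leaves (`CTB/L00 … ` up to the import below, linear chain) and Helper24 `CT/B01..B06` may be used as black boxes.
Only replace the `sorry`s; keep names / statements / namespace verbatim (aux lemmas: fresh names in a sub-namespace `L15`).

RECIPE.  BetaNotes Step 15.  Suppose `y ∉ center`.  `Ctx.step13` (with `Commute b y` from `hy.1`).  If relIndex `= 1`: `cl y ∣ n`, `cl y ≠ 1`, `cl y = n`, `Cz y = Cz b` (≤ + equal index); `Kc ≤ Cz y` (`y ∈ CK`), so `Kc ≤ Kc ⊓ Cz b = ⊥`,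
contradicting `Ctx.Kc_ne_bot`.  So relIndex `= m`: `H := Cz b ⊓ Cz y` has `index = m * n`, `card H * (m * n) = card G`.  `Kc ≤ Cz y` and `H ≤ Cz y`, `Kc ⊓ H ≤ Kc ⊓ Cz b = ⊥`: the map `Kc × H → Cz y`, `(k, x) ↦ k * x` is injective,
so `card Kc * card H ≤ card (Cz y)`, hence `cl y * card Kc ≤ m * n`, and with `m < card Kc` (`Ctx.lt_card_Kc`): `cl y < n`, so `cl y = 1 ∨ m` (`c.hyp.cs`, `m < n ≤ m * n`), `y ∈ A ⊓ Cz b = center` (`Ctx.A_inf_Cz`).
-/

set_option autoImplicit false

open Cfsg.Agent.Lib.Helper24.CT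

namespace Cfsg.Agent.Lib.Helper15.CTB

variable {G : Type*} [Group G] {m n s : ℕ} {b : G}

namespace L15

/-- two subgroups with trivial intersection inside a third one: product of the orders is at most the order -/
theorem card_mul_card_le [Finite G] (K H C : Subgroup G) (hK : K ≤ C) (hH : H ≤ C) (hKH : K ⊓ H = ⊥) :
    Nat.card ↥K * Nat.card ↥H ≤ Nat.card ↥C := by
  rw [← Nat.card_prod]
  apply Nat.card_le_card_of_injective
    (fun p : ↥K × ↥H => (⟨(p.1 : G) * (p.2 : G), C.mul_mem (hK p.1.2) (hH p.2.2)⟩ : ↥C))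
  rintro ⟨k, x⟩ ⟨k', x'⟩ hEq
  have h1 : (k : G) * (x : G) = (k' : G) * (x' : G) := congrArg Subtype.val hEq
  have h2 : (k' : G)⁻¹ * (k : G) = (x' : G) * (x : G)⁻¹ := by
    calc (k' : G)⁻¹ * (k : G) = (k' : G)⁻¹ * ((k : G) * (x : G)) * (x : G)⁻¹ := by group
      _ = (k' : G)⁻¹ * ((k' : G) * (x' : G)) * (x : G)⁻¹ := by rw [h1]
      _ = (x' : G) * (x : G)⁻¹ := by group
  have h3 : (k' : G)⁻¹ * (k : G) ∈ K ⊓ H := by
    refine ⟨K.mul_mem (K.inv_mem k'.2) k.2, ?_⟩
    rw [h2]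
    exact H.mul_mem x'.2 (H.inv_mem x.2)
  rw [hKH, Subgroup.mem_bot] at h3
  have h4 : (k : G) = (k' : G) := by
    have := inv_mul_eq_one.mp h3
    exact this.symm
  have h5 : (x : G) = (x' : G) := by
    rw [h4] at h1
    exact mul_left_cancel h1
  exact Prod.ext (Subtype.ext h4) (Subtype.ext h5)

end L15

/-- Step 15 (Claim 2) -/
theorem Ctx.claim2 [Finite G] (c : Ctx G m n s b) {y : G} (hy : y ∈ Cz b ⊓ CK G m)
    (hys : (orderOf y).Coprime s) : y ∈ Subgroup.center G := by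
  by_contra hyc
  have hby : Commute b y := (mem_Cz.mp hy.1).symm
  obtain ⟨h13a, h13b⟩ := c.step13 hby hys
  have hKy : Kc G m ≤ Cz y := by
    intro k hk
    rw [mem_Cz]
    have h2 : y ∈ Subgroup.centralizer (Kc G m : Set G) := hy.2
    rw [Subgroup.mem_centralizer_iff] at h2
    exact h2 k hk
  have hm1 : 1 < m := c.hyp.one_lt_m
  have hmn : m < n := c.hyp.lt
  have hcl1 : cl y ≠ 1 := fun h1 => hyc ((cl_eq_one_iff y).mp h1)
  rcases h13a with hrel | hrel
  · -- relIndex = 1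
    have hdvd := h13b hrel
    have hcly : cl y = n := (c.hyp.cl_of_dvd_n hdvd).resolve_left hcl1
    have hle : Cz b ≤ Cz y := by
      have := Subgroup.relIndex_eq_one.mp hrel
      exact le_trans this inf_le_right
    have heq : Cz b = Cz y := by
      apply B05_eq_of_le_of_index_eq hle
      have h1 : (Cz b).index = n := c.clb
      have h2 : (Cz y).index = n := hcly
      rw [h1, h2]
    have hKb : Kc G m ≤ Kc G m ⊓ Cz b := le_inf le_rfl (heq ▸ hKy)
    rw [c.Kc_inf_Cz] at hKb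
    exact c.Kc_ne_bot (le_bot_iff.mp hKb)
  · -- relIndex = m
    have hidx : (Cz b ⊓ Cz y).index = m * n := by
      have := Subgroup.relIndex_mul_index (inf_le_left : Cz b ⊓ Cz y ≤ Cz b)
      rw [hrel] at this
      have h1 : (Cz b).index = n := c.clb
      rw [h1] at this
      exact this.symm
    have hcardH : Nat.card ↥(Cz b ⊓ Cz y) * (m * n) = Nat.card G := by
      rw [← hidx]; exact Subgroup.card_mul_index _
    have hKH : Kc G m ⊓ (Cz b ⊓ Cz y) = ⊥ := by
      apply le_bot_iff.mp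
      rw [← c.Kc_inf_Cz]
      exact inf_le_inf_left _ inf_le_left
    have hle := L15.card_mul_card_le (Kc G m) (Cz b ⊓ Cz y) (Cz y) hKy inf_le_right hKH
    have hcardy : Nat.card ↥(Cz y) * cl y = Nat.card G := Subgroup.card_mul_index _
    have hHpos : 0 < Nat.card ↥(Cz b ⊓ Cz y) := Nat.card_pos
    have hlt := c.lt_card_Kc
    have hclpos : 0 < cl y := Nat.pos_of_ne_zero Subgroup.index_ne_zero_of_finite
    -- card Kc * cl y ≤ m * n
    have hkey : Nat.card ↥(Kc G m) * cl y ≤ m * n := by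
      have h1 : Nat.card ↥(Kc G m) * Nat.card ↥(Cz b ⊓ Cz y) * cl y ≤
          Nat.card ↥(Cz b ⊓ Cz y) * (m * n) := by
        rw [hcardH, ← hcardy]
        exact Nat.mul_le_mul_right _ hle
      have h2 : Nat.card ↥(Cz b ⊓ Cz y) * (Nat.card ↥(Kc G m) * cl y) ≤
          Nat.card ↥(Cz b ⊓ Cz y) * (m * n) := by
        calc Nat.card ↥(Cz b ⊓ Cz y) * (Nat.card ↥(Kc G m) * cl y)
            = Nat.card ↥(Kc G m) * Nat.card ↥(Cz b ⊓ Cz y) * cl y := by ring
          _ ≤ _ := h1
      exact Nat.le_of_mul_le_mul_left h2 hHpos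
    have hcllt : cl y < n := by
      by_contra hge
      push_neg at hge
      have h1 : m * n < Nat.card ↥(Kc G m) * cl y := by
        calc m * n ≤ m * cl y := Nat.mul_le_mul_left _ hge
          _ < Nat.card ↥(Kc G m) * cl y := Nat.mul_lt_mul_of_pos_right hlt hclpos
      omega
    have hyA : y ∈ A G m := by
      rw [c.hyp.mem_A_iff]
      rcases c.hyp.cs y with h1 | h1 | h1 | h1
      · exact Or.inl h1
      · exact Or.inr h1
      · omega
      · exfalso
        have : n ≤ m * n := Nat.le_mul_of_pos_left n (by omega)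
        omega
    have : y ∈ A G m ⊓ Cz b := ⟨hyA, hy.1⟩
    rw [c.A_inf_Cz] at this
    exact hyc this

end Cfsg.Agent.Lib.Helper15.CTB
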