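import Cfsg.Agent.Lib.Helper15.CTB.L16a

/-!
# S4146 (β) farm (architect helper15) — leaf L16

Paper proof: `Cfsg/Agent/Lib/Helper24/CT/BetaNotes.lean`.  Definitions: `CTB/Defs.lean` (`Cz`, `Kc`, `CK`, `St`, `Ctx`).
All EARLIER leaves (`CTB/L00 … ` up to the import below, linear chain) and Helper24 `CT/B01..B06` may be used as black boxes.
Only replace the `sorry`s; keep names / statements / namespace verbatim (aux lemmas: fresh names in a sub-namespace `L16`).

RECIPE.  BetaNotes Step 16.  Suppose `x ∉ A`: `cl x = n ∨ m * n` so `n ∣ cl x`, and `x ∉ center`.  `card G = cl x * card (Cz x)` and `card G = card Y₀ * (m * n)` (`Ctx.card_Y0`).  Take `r`-adic valuations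
(`Nat.factorization_mul`, `r ∤ m` by `Hyp.not_dvd_m_of_dvd_n`): `v(card (Cz x)) = v(card Y₀) = v(card center)` (`Ctx.factorization_Y0`).  But `Cz x` contains `center` and `x`; the subgroup `zpowers x ⊔ R`
(`R` a Sylow `r`-subgroup of `center`, central) is an `r`-group inside `Cz x` strictly containing `R` (`x ∉ center`), so `r * card R ∣ card (Cz x)`... i.e. `v(card (Cz x)) ≥ v(card center) + 1`.  Contradiction.
(Alternative: in `Cz x ⧸ (center.subgroupOf (Cz x))` the image of `x` is a nontrivial `r`-element, so `r ∣ card (Cz x) / card center`.)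
-/

set_option autoImplicit false

open Cfsg.Agent.Lib.Helper24.CT

namespace Cfsg.Agent.Lib.Helper15.CTB

variable {G : Type*} [Group G] {m n s : ℕ} {b : G}

namespace L16

/-- a noncentral `r`-element `x`: `card (Cz x) = card center * t` with `r ∣ t` -/
theorem card_Cz_eq [Finite G] {r : ℕ} (hr : r.Prime) {x : G} (hx : IsPrimary r x)
    (hxZ : x ∉ Subgroup.center G) :
    ∃ t : ℕ, r ∣ t ∧ Nat.card ↥(Cz x) = Nat.card (Subgroup.center G) * t := by
  obtain ⟨k, hk⟩ := hx
  have hle : Subgroup.center G ≤ Cz x := Subgroup.center_le_centralizer _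
  set C : Subgroup G := Cz x with hC
  have hxC : x ∈ C := by rw [hC, mem_Cz]
  set Z' : Subgroup ↥C := (Subgroup.center G).subgroupOf C with hZ'
  have : Z'.Normal := by rw [hZ']; infer_instance
  refine ⟨Z'.index, ?_, ?_⟩
  · -- the image of `x` in the quotient
    set q : ↥C ⧸ Z' := ((⟨x, hxC⟩ : ↥C) : ↥C ⧸ Z') with hq
    have hq1 : q ≠ 1 := by
      intro h
      rw [hq, QuotientGroup.eq_one_iff, hZ', Subgroup.mem_subgroupOf] at h
      exact hxZ h
    have hqpow : q ^ (r ^ k) = 1 := by
      rw [hq, ← QuotientGroup.mk_pow]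
      have : (⟨x, hxC⟩ : ↥C) ^ (r ^ k) = 1 := by
        apply Subtype.ext
        rw [Subgroup.coe_pow, Subgroup.coe_one]
        show x ^ (r ^ k) = 1
        rw [← hk]; exact pow_orderOf_eq_one x
      rw [this]; rfl
    have hdvd : orderOf q ∣ r ^ k := orderOf_dvd_of_pow_eq_one hqpow
    obtain ⟨j, -, hj⟩ := (Nat.dvd_prime_pow hr).1 hdvd
    have hj0 : j ≠ 0 := by
      rintro rfl
      rw [pow_zero, orderOf_eq_one_iff] at hj
      exact hq1 hj
    have hrq : r ∣ orderOf q := by rw [hj]; exact dvd_pow_self r hj0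
    have : orderOf q ∣ Nat.card (↥C ⧸ Z') := orderOf_dvd_natCard q
    exact hrq.trans this
  · have h1 : Nat.card Z' * Z'.index = Nat.card ↥C := Subgroup.card_mul_index Z'
    have h2 : Nat.card Z' = Nat.card (Subgroup.center G) :=
      Nat.card_congr (Subgroup.subgroupOfEquivOfLe hle).toEquiv
    rw [← h1, h2]

end L16

/-- Step 16 (Claim 3) -/
theorem Ctx.claim3 [Finite G] (c : Ctx G m n s b) {r : ℕ} (hr : r.Prime) (hrn : r ∣ n) {x : G}
    (hx : IsPrimary r x) : x ∈ A G m := by
  by_contra hxA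
  have hA := c.hyp.mem_A_iff x
  have h1 : cl x ≠ 1 := fun h => hxA (hA.2 (Or.inl h))
  have hm : cl x ≠ m := fun h => hxA (hA.2 (Or.inr h))
  have hxZ : x ∉ Subgroup.center G := fun h => h1 ((cl_eq_one_iff x).2 h)
  obtain ⟨t, hrt, hcard⟩ := L16.card_Cz_eq hr hx hxZ
  have hG : Nat.card ↥(Cz x) * cl x = Nat.card G := Subgroup.card_mul_index (Cz x)
  have hY := c.card_Y0
  have hv := c.factorization_Y0 hr hrn
  have hrm : ¬ r ∣ m := c.hyp.not_dvd_m_of_dvd_n hr hrn
  have hm0 : m ≠ 0 := by have := c.hyp.one_lt_m; omega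
  have hn0 : n ≠ 0 := by have := c.hyp.one_lt_n; omega
  have hvm : m.factorization r = 0 := Nat.factorization_eq_zero_of_not_dvd hrm
  have hZ0 : Nat.card (Subgroup.center G) ≠ 0 := Nat.card_pos.ne'
  have hY0 : Nat.card ↥(Cz b ⊓ CK G m) ≠ 0 := Nat.card_pos.ne'
  have hC0 : Nat.card ↥(Cz x) ≠ 0 := Nat.card_pos.ne'
  have ht0 : t ≠ 0 := by
    rintro rfl
    rw [mul_zero] at hcard
    exact hC0 hcard
  have hvt : 0 < t.factorization r := hr.factorization_pos_of_dvd ht0 hrt
  have hvC : (Nat.card ↥(Cz x)).factorization r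
      = (Nat.card (Subgroup.center G)).factorization r + t.factorization r := by
    rw [hcard, Nat.factorization_mul hZ0 ht0]; rfl
  have hvG2 : (Nat.card G).factorization r
      = (Nat.card ↥(Cz b ⊓ CK G m)).factorization r + n.factorization r := by
    rw [← hY, Nat.factorization_mul hY0 (mul_ne_zero hm0 hn0), Nat.factorization_mul hm0 hn0]
    simp only [Finsupp.coe_add, Pi.add_apply, hvm, zero_add]
  have hclx0 : cl x ≠ 0 := by
    intro h
    rw [h, mul_zero] at hG
    exact (Nat.card_pos (α := G)).ne' hG.symm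
  have hvG1 : (Nat.card G).factorization r
      = (Nat.card ↥(Cz x)).factorization r + (cl x).factorization r := by
    rw [← hG, Nat.factorization_mul hC0 hclx0]; rfl
  have hvcl : (cl x).factorization r = n.factorization r := by
    rcases c.hyp.cs x with h | h | h | h
    · exact absurd h h1
    · exact absurd h hm
    · rw [h]
    · rw [h, Nat.factorization_mul hm0 hn0]
      simp only [Finsupp.coe_add, Pi.add_apply, hvm, zero_add]
  omega

end Cfsg.Agent.Lib.Helper15.CTB
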