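import Cfsg.Agent.Lib.Helper15.CTB.L15

/-!
# S4146 (β) farm (architect helper15) — leaf L16a

Paper proof: `Cfsg/Agent/Lib/Helper24/CT/BetaNotes.lean`.  Definitions: `CTB/Defs.lean` (`Cz`, `Kc`, `CK`, `St`, `Ctx`).
All EARLIER leaves (`CTB/L00 … ` up to the import below, linear chain) and Helper24 `CT/B01..B06` may be used as black boxes.
Only replace the `sorry`s; keep names / statements / namespace verbatim (aux lemmas: fresh names in a sub-namespace `L16a`).

RECIPE.  `center ≤ Cz b ⊓ CK` so `card center ∣ card Y₀` and `factorization` is monotone (`Nat.factorization_le_iff_dvd`).  Conversely take a Sylow `r`-subgroup `R` of `Y₀ = ↥(Cz b ⊓ CK G m)`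
(`Sylow.card_eq_multiplicity : card R = r ^ (card Y₀).factorization r`); every element of `R` has order a power of `r`, prime to `s` (`r ∣ n`, `¬ s ∣ n` so `r ≠ s`), hence is central (`Ctx.claim2`);
so the image of `R` in `G` is an `r`-subgroup of `center`, `card R ∣ card center` (`Subgroup.card_dvd_of_le` after mapping), so `r ^ e ∣ card center`, `e ≤ factorization` (`Nat.Prime.pow_dvd_iff_le_factorization`).
-/

set_option autoImplicit false

open Cfsg.Agent.Lib.Helper24.CT

namespace Cfsg.Agent.Lib.Helper15.CTB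

variable {G : Type*} [Group G] {m n s : ℕ} {b : G}

/-- Step 16: `|Y₀|_r = |Z|_r` for primes `r ∣ n` -/
theorem Ctx.factorization_Y0 [Finite G] (c : Ctx G m n s b) {r : ℕ} (hr : r.Prime) (hrn : r ∣ n) :
    (Nat.card ↥(Cz b ⊓ CK G m)).factorization r = (Nat.card (Subgroup.center G)).factorization r := by
  have hrs : r ≠ s := by
    intro h
    exact c.not_s_dvd_n (h ▸ hrn)
  have hcle : Subgroup.center G ≤ Cz b ⊓ CK G m :=
    le_inf (Subgroup.center_le_centralizer _) (Subgroup.center_le_centralizer _)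
  have hZne : Nat.card (Subgroup.center G) ≠ 0 := Nat.card_pos.ne'
  have hYne : Nat.card ↥(Cz b ⊓ CK G m) ≠ 0 := Nat.card_pos.ne'
  apply le_antisymm
  · -- Sylow argument
    haveI : Fact r.Prime := ⟨hr⟩
    obtain ⟨R⟩ : Nonempty (Sylow r ↥(Cz b ⊓ CK G m)) := inferInstance
    have hRcard : Nat.card ↥(R : Subgroup ↥(Cz b ⊓ CK G m)) =
        r ^ (Nat.card ↥(Cz b ⊓ CK G m)).factorization r := R.card_eq_multiplicity
    have hmap : (R : Subgroup ↥(Cz b ⊓ CK G m)).map (Cz b ⊓ CK G m).subtype ≤ Subgroup.center G := by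
      rintro _ ⟨x, hx, rfl⟩
      obtain ⟨k, hk⟩ := (IsPGroup.iff_orderOf.mp R.isPGroup') ⟨x, hx⟩
      have hox : orderOf ((Cz b ⊓ CK G m).subtype x) = r ^ k := by
        have h1 : orderOf (⟨x, hx⟩ : ↥(R : Subgroup ↥(Cz b ⊓ CK G m))) = orderOf x :=
          Subgroup.orderOf_mk x hx
        rw [Subgroup.coe_subtype, Subgroup.orderOf_coe, ← h1]
        exact hk
      apply c.claim2 (y := (Cz b ⊓ CK G m).subtype x) x.2
      rw [hox]
      apply Nat.Coprime.pow_left
      exact (Nat.coprime_primes hr c.sp).mpr hrs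
    have hdvd : r ^ (Nat.card ↥(Cz b ⊓ CK G m)).factorization r ∣ Nat.card (Subgroup.center G) := by
      rw [← hRcard, ← Subgroup.card_map_of_injective (Cz b ⊓ CK G m).subtype_injective]
      exact Subgroup.card_dvd_of_le hmap
    exact (hr.pow_dvd_iff_le_factorization hZne).mp hdvd
  · exact (Nat.factorization_le_iff_dvd hZne hYne).mpr (Subgroup.card_dvd_of_le hcle) r

end Cfsg.Agent.Lib.Helper15.CTB
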