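import Cfsg.Agent.Lib.Helper15.CTB.L16

/-!
# S4146 (β) farm (architect helper15) — leaf L17

Paper proof: `Cfsg/Agent/Lib/Helper24/CT/BetaNotes.lean`.  Definitions: `CTB/Defs.lean` (`Cz`, `Kc`, `CK`, `St`, `Ctx`).
All EARLIER leaves (`CTB/L00 … ` up to the import below, linear chain) and Helper24 `CT/B01..B06` may be used as black boxes.
Only replace the `sorry`s; keep names / statements / namespace verbatim (aux lemmas: fresh names in a sub-namespace `L17`).

RECIPE.  BetaNotes Step 17.  `card Kc ∣ n` (`Ctx.card_Kc_dvd_n`), so it suffices `n ∣ card Kc`, i.e. for every prime `r ∣ n`: `v_r(n) ≤ v_r(card Kc)` (`Nat.factorization_le_iff_dvd`, `Nat.factorization_eq_zero_of_not_dvd`).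
A Sylow `r`-subgroup `P` of `G` lies in `A` (`Ctx.claim3`: its elements are `r`-primary), so `v_r(card A) = v_r(card G)`.  `card A = card Kc * card center` (`Ctx.card_A`), `card G = card Y₀ * (m * n)` (`Ctx.card_Y0`),
`v_r(card Y₀) = v_r(card center)` (`Ctx.factorization_Y0`), `v_r(m) = 0`.  Hence `v_r(card Kc) = v_r(n)`.
-/

set_option autoImplicit false

open Cfsg.Agent.Lib.Helper24.CT

namespace Cfsg.Agent.Lib.Helper15.CTB

variable {G : Type*} [Group G] {m n s : ℕ} {b : G}

/-- Step 17 -/
theorem Ctx.card_Kc [Finite G] (c : Ctx G m n s b) : Nat.card (Kc G m) = n := by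
  classical
  have h := c.hyp
  have hm0 : m ≠ 0 := by have := h.one_lt_m; omega
  have hn0 : n ≠ 0 := by have := h.one_lt_n; omega
  have hK0 : Nat.card (Kc G m) ≠ 0 := Nat.card_pos.ne'
  refine Nat.dvd_antisymm c.card_Kc_dvd_n ?_
  rw [← Nat.factorization_le_iff_dvd hn0 hK0]
  intro r
  by_cases hr : r.Prime
  swap
  · rw [Nat.factorization_eq_zero_of_not_prime n hr]; exact Nat.zero_le _
  by_cases hrn : r ∣ n
  swap
  · rw [Nat.factorization_eq_zero_of_not_dvd hrn]; exact Nat.zero_le _
  haveI : Fact r.Prime := ⟨hr⟩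
  have hrm : ¬ r ∣ m := h.not_dvd_m_of_dvd_n hr hrn
  -- a Sylow r-subgroup lies in A
  obtain P : Sylow r G := default
  have hPA : (P : Subgroup G) ≤ A G m := by
    intro x hxP
    apply c.claim3 hr hrn
    obtain ⟨k, hk⟩ := (IsPGroup.iff_orderOf.1 P.2) ⟨x, hxP⟩
    refine ⟨k, ?_⟩
    rw [← hk]; exact (Subgroup.orderOf_mk x hxP).symm
  have hPcard : Nat.card (P : Subgroup G) = r ^ (Nat.card G).factorization r := P.card_eq_multiplicity
  have hA0 : Nat.card (A G m) ≠ 0 := Nat.card_pos.ne'
  have hdvd : r ^ (Nat.card G).factorization r ∣ Nat.card (A G m) := by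
    rw [← hPcard]; exact Subgroup.card_dvd_of_le hPA
  have hle : (Nat.card G).factorization r ≤ (Nat.card (A G m)).factorization r :=
    (hr.pow_dvd_iff_le_factorization hA0).1 hdvd
  have hZ0 : Nat.card (Subgroup.center G) ≠ 0 := Nat.card_pos.ne'
  have hY00 : Nat.card ↥(Cz b ⊓ CK G m) ≠ 0 := Nat.card_pos.ne'
  have eA : (Nat.card (A G m)).factorization r =
      (Nat.card (Kc G m)).factorization r + (Nat.card (Subgroup.center G)).factorization r := by
    rw [c.card_A, Nat.factorization_mul hK0 hZ0, Finsupp.add_apply]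
  have eG : (Nat.card G).factorization r =
      (Nat.card (Subgroup.center G)).factorization r + n.factorization r := by
    rw [← c.card_Y0, Nat.factorization_mul hY00 (mul_ne_zero hm0 hn0), Finsupp.add_apply,
      c.factorization_Y0 hr hrn, Nat.factorization_mul hm0 hn0, Finsupp.add_apply,
      Nat.factorization_eq_zero_of_not_dvd hrm, zero_add]
  omega

end Cfsg.Agent.Lib.Helper15.CTB
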