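import Cfsg.Agent.Lib.Helper15.CTB.L17

/-!
# S4146 (β) farm (architect helper15) — leaf L18a

Paper proof: `Cfsg/Agent/Lib/Helper24/CT/BetaNotes.lean`.  Definitions: `CTB/Defs.lean` (`Cz`, `Kc`, `CK`, `St`, `Ctx`).
All EARLIER leaves (`CTB/L00 … ` up to the import below, linear chain) and Helper24 `CT/B01..B06` may be used as black boxes.
Only replace the `sorry`s; keep names / statements / namespace verbatim (aux lemmas: fresh names in a sub-namespace `L18a`).

RECIPE.  `card Kc = n` (`Ctx.card_Kc`), `(Cz b).index = n`, `Kc ⊓ Cz b = ⊥`: the map `Kc × Cz b → G`, `(k, y) ↦ k * y` is injective between finite sets of the same cardinality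
(`card (Cz b) * n = card G`), hence surjective.
-/

set_option autoImplicit false

open Cfsg.Agent.Lib.Helper24.CT

namespace Cfsg.Agent.Lib.Helper15.CTB

variable {G : Type*} [Group G] {m n s : ℕ} {b : G}

/-- Step 18: `G = K * Y` -/
theorem Ctx.exists_mul [Finite G] (c : Ctx G m n s b) (g : G) :
    ∃ k ∈ Kc G m, ∃ y ∈ Cz b, g = k * y := by
  classical
  have hK : Nat.card (Kc G m) = n := c.card_Kc
  have hidx : (Cz b).index = n := c.clb
  have hinf : Kc G m ⊓ Cz b = ⊥ := c.Kc_inf_Cz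
  let f : ↥(Kc G m) × ↥(Cz b) → G := fun p => (p.1 : G) * (p.2 : G)
  have hinj : Function.Injective f := by
    rintro ⟨⟨k, hk⟩, ⟨y, hy⟩⟩ ⟨⟨k', hk'⟩, ⟨y', hy'⟩⟩ hEq
    have hEq' : k * y = k' * y' := hEq
    have h1 : k'⁻¹ * k = y' * y⁻¹ := by
      calc k'⁻¹ * k = k'⁻¹ * (k * y) * y⁻¹ := by group
        _ = k'⁻¹ * (k' * y') * y⁻¹ := by rw [hEq']
        _ = y' * y⁻¹ := by group
    have h2 : k'⁻¹ * k ∈ Kc G m ⊓ Cz b := by
      refine ⟨(Kc G m).mul_mem ((Kc G m).inv_mem hk') hk, ?_⟩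
      rw [h1]; exact (Cz b).mul_mem hy' ((Cz b).inv_mem hy)
    rw [hinf, Subgroup.mem_bot] at h2
    have hk_eq : k = k' := by
      calc k = k' * (k'⁻¹ * k) := by group
        _ = k' := by rw [h2, mul_one]
    have hy_eq : y = y' := by
      have : y' * y⁻¹ = 1 := by rw [← h1, h2]
      calc y = (y' * y⁻¹)⁻¹ * y' := by group
        _ = y' := by rw [this]; group
    subst hk_eq; subst hy_eq; rfl
  have hcard : Nat.card G ≤ Nat.card (↥(Kc G m) × ↥(Cz b)) := by
    rw [Nat.card_prod, hK, ← hidx, mul_comm, Subgroup.card_mul_index]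
  have hbij := hinj.bijective_of_nat_card_le hcard
  obtain ⟨⟨⟨k, hk⟩, ⟨y, hy⟩⟩, hky⟩ := hbij.2 g
  exact ⟨k, hk, y, hy, hky.symm⟩

end Cfsg.Agent.Lib.Helper15.CTB
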