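import Cfsg.Agent.Lib.Helper15.CTB.L18a

/-!
# S4146 (β) farm (architect helper15) — leaf L18b

Paper proof: `Cfsg/Agent/Lib/Helper24/CT/BetaNotes.lean`.  Definitions: `CTB/Defs.lean` (`Cz`, `Kc`, `CK`, `St`, `Ctx`).
All EARLIER leaves (`CTB/L00 … ` up to the import below, linear chain) and Helper24 `CT/B01..B06` may be used as black boxes.
Only replace the `sorry`s; keep names / statements / namespace verbatim (aux lemmas: fresh names in a sub-namespace `L18b`).

RECIPE.  BetaNotes Step 18.  `≥`: clear (`y` commutes with `b` since `y ∈ Cz b`).  `≤`: let `g ∈ Cz (y * b)`, `g = k * y'` (`Ctx.exists_mul`).  Put `u = y' * (y * b) * y'⁻¹ ∈ Cz b`.  `k * u * k⁻¹ = y * b`, so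
`k * (u * k⁻¹ * u⁻¹) = y * b * u⁻¹ ∈ Cz b`, and the left side is in `Kc` (normal); `Kc ⊓ Cz b = ⊥` so `u = y * b` and `k` commutes with `y * b`; `k` commutes with `y` (`y ∈ CK`), so with `b`; `k ∈ Kc ⊓ Cz b = ⊥`, `k = 1`,
`g = y' ∈ Cz b`, and `y'` commutes with `y * b` and `b`, hence with `y`.
-/

set_option autoImplicit false

open Cfsg.Agent.Lib.Helper24.CT

namespace Cfsg.Agent.Lib.Helper15.CTB

variable {G : Type*} [Group G] {m n s : ℕ} {b : G}

/-- Step 18: `C(y * b) = Y ⊓ C(y)` for `y ∈ Y₀` -/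
theorem Ctx.centralizer_mul_b [Finite G] (c : Ctx G m n s b) {y : G} (hy : y ∈ Cz b ⊓ CK G m) :
    Cz (y * b) = Cz b ⊓ Cz y := by
  have hyb : y * b = b * y := mem_Cz.mp hy.1
  have hyK : ∀ k ∈ Kc G m, k * y = y * k := fun k hk =>
    Subgroup.mem_centralizer_iff.mp hy.2 k hk
  apply le_antisymm
  · intro g hg
    have hg' : g * (y * b) = (y * b) * g := mem_Cz.mp hg
    obtain ⟨k, hk, y', hy', rfl⟩ := c.exists_mul g
    have hy'b : y' * b = b * y' := mem_Cz.mp hy'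
    obtain ⟨u, hu⟩ : ∃ u : G, u = y' * (y * b) * y'⁻¹ := ⟨_, rfl⟩
    have hub : u ∈ Cz b := by
      rw [hu]
      exact (Cz b).mul_mem ((Cz b).mul_mem hy' ((Cz b).mul_mem hy.1 (mem_Cz.mpr rfl)))
        ((Cz b).inv_mem hy')
    have hku : k * u * k⁻¹ = y * b := by
      have e : k * u * k⁻¹ = (k * y') * (y * b) * (k * y')⁻¹ := by
        rw [hu]
        group
      rw [e, hg']
      group
    have h1 : k * (u * k⁻¹ * u⁻¹) = y * b * u⁻¹ := by
      have e : k * (u * k⁻¹ * u⁻¹) = (k * u * k⁻¹) * u⁻¹ := by group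
      rw [e, hku]
    have h2 : k * (u * k⁻¹ * u⁻¹) ∈ Kc G m :=
      (Kc G m).mul_mem hk ((Kc_normal m).conj_mem _ ((Kc G m).inv_mem hk) _)
    have h3 : y * b * u⁻¹ ∈ Cz b :=
      (Cz b).mul_mem ((Cz b).mul_mem hy.1 (mem_Cz.mpr rfl)) ((Cz b).inv_mem hub)
    have h4 : y * b * u⁻¹ = 1 := by
      have h5 : y * b * u⁻¹ ∈ Kc G m ⊓ Cz b := ⟨h1 ▸ h2, h3⟩
      rw [c.Kc_inf_Cz] at h5
      exact Subgroup.mem_bot.mp h5
    have hu' : u = y * b := (mul_inv_eq_one.mp h4).symm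
    have hk1 : k * (y * b) = (y * b) * k := by
      rw [hu'] at hku
      calc k * (y * b) = k * (y * b) * k⁻¹ * k := by group
        _ = (y * b) * k := by rw [hku]
    have hk2 : k * b = b * k := by
      have h6 := hyK k hk
      have h5 : y * (k * b) = y * (b * k) := by
        rw [← mul_assoc, ← h6, mul_assoc, ← mul_assoc y b k, ← hk1]
      exact mul_left_cancel h5
    have hk3 : k = 1 := by
      have h7 : k ∈ Kc G m ⊓ Cz b := ⟨hk, mem_Cz.mpr hk2⟩
      rw [c.Kc_inf_Cz] at h7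
      exact Subgroup.mem_bot.mp h7
    rw [hk3, one_mul] at hg' ⊢
    refine ⟨hy', mem_Cz.mpr ?_⟩
    have h8 : y' * y * b = y * y' * b := by
      rw [mul_assoc, hg', mul_assoc, ← hy'b, mul_assoc]
    exact mul_right_cancel h8
  · intro g hg
    have h1 := mem_Cz.mp hg.1
    have h2 := mem_Cz.mp hg.2
    apply mem_Cz.mpr
    rw [← mul_assoc, h2, mul_assoc, h1, mul_assoc]

end Cfsg.Agent.Lib.Helper15.CTB
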