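import Cfsg.Agent.Lib.Helper15.CTB.L18b

/-!
# S4146 (β) farm (architect helper15) — leaf L18c

Paper proof: `Cfsg/Agent/Lib/Helper24/CT/BetaNotes.lean`.  Definitions: `CTB/Defs.lean` (`Cz`, `Kc`, `CK`, `St`, `Ctx`).
All EARLIER leaves (`CTB/L00 … ` up to the import below, linear chain) and Helper24 `CT/B01..B06` may be used as black boxes.
Only replace the `sorry`s; keep names / statements / namespace verbatim (aux lemmas: fresh names in a sub-namespace `L18c`).

RECIPE.  BetaNotes Step 18.  Let `y ∈ Y₀`, `H := Cz b ⊓ Cz y = Cz (y * b)` (`Ctx.centralizer_mul_b`).  `cl (y * b) = H.index = n * t`, `t = H.relIndex (Cz b)`; `n ∣ cl (y*b)` so `cl (y * b) = n ∨ m * n` and `t ≤ m`.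
`Kc ≤ Cz y` (`y ∈ CK`), `H ≤ Cz y`, `Kc ⊓ H = ⊥`, `card Kc = n`: `n * card H ≤ card (Cz y)` (injective `Kc × H → Cz y`).  With `card G = card H * (n * t) = card (Cz y) * cl y`: `cl y ≤ t ≤ m < n`,
so `cl y = 1 ∨ m`, `y ∈ A ⊓ Cz b = center` (`Ctx.A_inf_Cz`).
-/

set_option autoImplicit false

open Cfsg.Agent.Lib.Helper24.CT

namespace Cfsg.Agent.Lib.Helper15.CTB

variable {G : Type*} [Group G] {m n s : ℕ} {b : G}

/-- aux for L18c: two subgroups of `L` meeting trivially have `card K * card H ≤ card L` -/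
theorem L18c.card_mul_card_le [Finite G] {K H L : Subgroup G} (hK : K ≤ L) (hH : H ≤ L)
    (hd : K ⊓ H = ⊥) : Nat.card K * Nat.card H ≤ Nat.card L := by
  rw [← Nat.card_prod]
  have hinj := Subgroup.mul_injective_of_disjoint (disjoint_iff.mpr hd)
  refine Nat.card_le_card_of_injective
    (fun p : K × H => (⟨(p.1 : G) * (p.2 : G), L.mul_mem (hK p.1.2) (hH p.2.2)⟩ : L)) ?_
  intro p q hpq
  apply hinj
  exact congrArg Subtype.val hpq

/-- Step 18: `Y₀ ≤ Z` -/
theorem Ctx.Y0_le_center [Finite G] (c : Ctx G m n s b) : Cz b ⊓ CK G m ≤ Subgroup.center G := by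
  intro y hy
  have hH : Cz (y * b) = Cz b ⊓ Cz y := c.centralizer_mul_b hy
  have hn : 0 < n := lt_trans Nat.zero_lt_one c.hyp.one_lt_n
  have hm : 0 < m := lt_trans Nat.zero_lt_one c.hyp.one_lt_m
  have hclH : cl (y * b) = (Cz b ⊓ Cz y).index := by
    rw [cl_def]
    show (Cz (y * b)).index = _
    rw [hH]
  have hnb : (Cz b).index = n := by
    rw [← c.clb, cl_def]
  have hidx : (Cz b ⊓ Cz y).relIndex (Cz b) * n = cl (y * b) := by
    rw [hclH, ← hnb]
    exact Subgroup.relIndex_mul_index inf_le_left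
  have htm : (Cz b ⊓ Cz y).relIndex (Cz b) ≤ m := by
    rcases c.hyp.cl_of_n_dvd (g := y * b) ⟨_, by rw [← hidx, mul_comm]⟩ with h | h
    · have h1 : (Cz b ⊓ Cz y).relIndex (Cz b) * n = 1 * n := by rw [hidx, h, one_mul]
      have h2 := Nat.eq_of_mul_eq_mul_right hn h1
      rw [h2]
      exact c.hyp.one_lt_m.le
    · have h1 : (Cz b ⊓ Cz y).relIndex (Cz b) * n = m * n := by rw [hidx, h]
      exact (Nat.eq_of_mul_eq_mul_right hn h1).le
  have hKy : Kc G m ≤ Cz y := by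
    intro k hk
    exact mem_Cz.mpr (Subgroup.mem_centralizer_iff.mp hy.2 k hk)
  have hd : Kc G m ⊓ (Cz b ⊓ Cz y) = ⊥ := by
    apply le_bot_iff.mp
    rw [← c.Kc_inf_Cz]
    exact inf_le_inf_left _ inf_le_left
  have hle := L18c.card_mul_card_le hKy (inf_le_right : Cz b ⊓ Cz y ≤ Cz y) hd
  rw [c.card_Kc] at hle
  have hG1 : Nat.card (Cz b ⊓ Cz y : Subgroup G) * ((Cz b ⊓ Cz y).relIndex (Cz b) * n)
      = Nat.card G := by
    rw [hidx, hclH]
    exact Subgroup.card_mul_index _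
  have hG2 : Nat.card (Cz y) * cl y = Nat.card G := by
    rw [cl_def]
    exact Subgroup.card_mul_index _
  have hHpos : 0 < Nat.card (Cz b ⊓ Cz y : Subgroup G) := Nat.card_pos
  have hcly : cl y ≤ (Cz b ⊓ Cz y).relIndex (Cz b) := by
    have h1 : n * Nat.card (Cz b ⊓ Cz y : Subgroup G) * cl y
        ≤ Nat.card (Cz b ⊓ Cz y : Subgroup G) * ((Cz b ⊓ Cz y).relIndex (Cz b) * n) := by
      rw [hG1, ← hG2]
      exact Nat.mul_le_mul_right _ hle
    have h2 : (n * Nat.card (Cz b ⊓ Cz y : Subgroup G)) * cl y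
        ≤ (n * Nat.card (Cz b ⊓ Cz y : Subgroup G)) * (Cz b ⊓ Cz y).relIndex (Cz b) := by
      calc _ ≤ _ := h1
        _ = _ := by ring
    exact Nat.le_of_mul_le_mul_left h2 (Nat.mul_pos hn hHpos)
  have hlt : cl y < n := lt_of_le_of_lt (le_trans hcly htm) c.hyp.lt
  have hA : y ∈ A G m := by
    rw [c.hyp.mem_A_iff]
    rcases c.hyp.cs y with h | h | h | h
    · exact Or.inl h
    · exact Or.inr h
    · omega
    · exfalso
      have h3 : n ≤ m * n := Nat.le_mul_of_pos_left n hm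
      omega
  have hfin : y ∈ A G m ⊓ Cz b := ⟨hA, hy.1⟩
  rw [c.A_inf_Cz] at hfin
  exact hfin

end Cfsg.Agent.Lib.Helper15.CTB
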