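import Cfsg.Agent.Lib.Helper15.CTB.L18c

/-!
# S4146 (β) farm (architect helper15) — leaf L18d

Paper proof: `Cfsg/Agent/Lib/Helper24/CT/BetaNotes.lean`.  Definitions: `CTB/Defs.lean` (`Cz`, `Kc`, `CK`, `St`, `Ctx`).
All EARLIER leaves (`CTB/L00 … ` up to the import below, linear chain) and Helper24 `CT/B01..B06` may be used as black boxes.
Only replace the `sorry`s; keep names / statements / namespace verbatim (aux lemmas: fresh names in a sub-namespace `L18d`).

RECIPE.  BetaNotes Step 18 (end).  `card Y₀ ≤ card center` (`Ctx.Y0_le_center`, `Subgroup.card_le_of_le`).  `c.hyp.exmn` gives `g` with `cl g = m * n`; `card (Cz g) * (m * n) = card G = card Y₀ * (m * n)` (`Ctx.card_Y0`,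
`Subgroup.card_mul_index`), so `card (Cz g) = card Y₀ ≤ card center`; `center ≤ Cz g`; so `Cz g = center` (`Subgroup.eq_of_le_of_card_ge`), `g ∈ Cz g = center`, `cl g = 1` (`cl_eq_one_iff`), but `1 < m * n`.
-/

set_option autoImplicit false

open Cfsg.Agent.Lib.Helper24.CT

namespace Cfsg.Agent.Lib.Helper15.CTB

variable {G : Type*} [Group G] {m n s : ℕ} {b : G}

/-- Step 18 (end): contradiction -/
theorem Ctx.false [Finite G] (c : Ctx G m n s b) : False := by
  have hY0 : Cz b ⊓ CK G m ≤ Subgroup.center G := c.Y0_le_center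
  obtain ⟨g, hg⟩ := c.hyp.exmn
  have hm1 := c.hyp.one_lt_m
  have hn1 : 1 < n := lt_trans c.hyp.one_lt_m c.hyp.lt
  have hmn : 0 < m * n := by positivity
  have h1 : Nat.card ↥(Cz g) * (m * n) = Nat.card G := by
    have := Subgroup.card_mul_index (Cz g)
    rw [← cl_def, hg] at this
    exact this
  have h2 := c.card_Y0
  have h3 : Nat.card ↥(Cz g) = Nat.card ↥(Cz b ⊓ CK G m) := by
    have : Nat.card ↥(Cz g) * (m * n) = Nat.card ↥(Cz b ⊓ CK G m) * (m * n) := by rw [h1, h2]
    exact Nat.eq_of_mul_eq_mul_right hmn this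
  have h4 : Subgroup.center G ≤ Cz g := Subgroup.center_le_centralizer _
  have h5 : Nat.card ↥(Cz g) ≤ Nat.card ↥(Subgroup.center G) := by
    rw [h3]; exact Subgroup.card_le_of_le hY0
  have h6 : Subgroup.center G = Cz g := Subgroup.eq_of_le_of_card_ge h4 h5
  have h7 : g ∈ Subgroup.center G := by
    rw [h6, mem_Cz]
  have h8 : cl g = 1 := (cl_eq_one_iff g).mpr h7
  rw [hg] at h8
  nlinarith

end Cfsg.Agent.Lib.Helper15.CTB
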