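import Cfsg.Agent.Lib.Helper15.CTB.L18d

/-!
# S4146 (β) farm (architect helper15): final assembly (sorry-free modulo the leaves L00..L18d)
-/

set_option autoImplicit false

open Cfsg.Agent.Lib.Helper24.CT

namespace Cfsg.Agent.Lib.Helper15.CTB

variable {G : Type*} [Group G] {m n s : ℕ} {b : G}

/-- the (β) half of S4146 -/
theorem commute_of_cl [Finite G] (h : Hyp G m n) {a b : G} (ha : cl a = m) (hb : cl b = n) : Commute a b := by
  by_contra hab
  obtain ⟨p, hp, b', hb'mem, hprim, hclb', hcent⟩ := h.exists_primary_cl_n hb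
  have haA : a ∈ A G m := (h.mem_A_iff a).mpr (Or.inr ha)
  have hab' : ¬ Commute a b' := by
    intro hc
    apply hab
    have h1 : a ∈ Cz b' := mem_Cz.mpr hc.eq
    rw [show Cz b' = Cz b from hcent] at h1
    exact (mem_Cz.mp h1)
  exact Ctx.false (s := p) (b := b') ⟨h, hp, hprim, hclb', ⟨a, haA, hab'⟩⟩

end Cfsg.Agent.Lib.Helper15.CTB
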